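import Cfsg.Agent.H659.TF.Ess2
import Cfsg.Agent.H659.TF.PosA
import Cfsg.Agent.H745.TF.EssStmts3

/-!
# S5262 (ESS5): essential subgroups `R ≤ QA`, `R ≰ QB` (helper772)

`stEss5a_of`, `stEss5b_of`, `stEss5c_of`. Plan: `outputs/live/tools/plans/S5262.md`, section ESS-745B.
-/

set_option autoImplicit false
set_option linter.unusedVariables false
set_option linter.unusedSimpArgs false

namespace Cfsg.Agent.H772.TF

open Cfsg Cfsg.FusionSystem Cfsg.Agent.Octagon.Pkg Cfsg.Agent.H745.TF Cfsg.Agent.H756.PU Cfsg.Agent.H802.TE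
  Cfsg.Agent.H752.TF Cfsg.Agent.H659.TF.Ess

universe u v

section

variable {K : Type u} [Field K] {σ : K →+* K} {m : ℕ} (hK : HypK σ m)
variable {U : Type v} [Group U] (T : TF σ U)

include hK

/-- `[QA, E]` -/
theorem comm_QA_E {x e : U} (hx : x ∈ T.QA) (he : e ∈ T.E) :
    co T (x * e * x⁻¹ * e⁻¹) =
      ⟨0, 0, 0, 0, 0, (co T x).a7 * (co T e).b2 + (co T x).a6 * (co T e).a3 + (co T x).a2 * (co T e).a5 +
        (co T x).a1 * (co T e).b6, 0, 0, 0, 0, 0, 0⟩ := by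
  apply co_comm' hK
  rw [mem_QA hK] at hx
  rw [mem_E hK] at he
  have h2 := hK.two
  generalize co T x = c at hx ⊢
  generalize co T e = d at he ⊢
  obtain ⟨c1, c2⟩ := hx
  obtain ⟨d1, d2, d3, d4, d5, d6, d7⟩ := he
  ext <;> simp only [mul_a1, mul_a2, mul_b2, mul_a3, mul_a4, mul_b4, mul_a5, mul_a6, mul_b6, mul_a7, mul_a8, mul_b8,
    c1, c2, d1, d2, d3, d4, d5, d6, d7, zero_mul, mul_zero, add_zero, zero_add, map_zero, pow_zero, ne_eq,
    OfNat.ofNat_ne_zero, not_false_eq_true, zero_pow]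
  all_goals first
    | ring1
    | linear_combination (-(c.a2 * d.a5) - c.a1 * d.b6) * h2

/-- `[D, QA]` -/
theorem comm_D_QA {d x : U} (hd : d ∈ T.D) (hx : x ∈ T.QA) :
    co T (d * x * d⁻¹ * x⁻¹) =
      ⟨0, 0, (co T d).a4 * (co T x).a1, (co T d).a4 * (co T x).a2, 0,
        (co T d).a4 * σ (co T x).a4 + (co T d).a5 * (co T x).a2 + (co T d).b6 * (co T x).a1 +
        (co T x).a4 * σ (co T d).a4 + (co T x).a6 * (co T d).a3 + (co T x).a7 * (co T d).b2 +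
        (co T x).a6 * (co T d).a4 * (co T x).a2 + (co T x).a7 * (co T d).a4 * (co T x).a1,
        (co T x).a6 * (co T d).a4, 0, (co T x).a7 * (co T d).a4, 0, 0, 0⟩ := by
  apply co_comm' hK
  rw [mem_QA hK] at hx
  rw [mem_D hK] at hd
  have h2 := hK.two
  generalize co T x = c at hx ⊢
  generalize co T d = d at hd ⊢
  obtain ⟨c1, c2⟩ := hx
  obtain ⟨d1, d2, d3, d4, d5, d6⟩ := hd
  ext <;> simp only [mul_a1, mul_a2, mul_b2, mul_a3, mul_a4, mul_b4, mul_a5, mul_a6, mul_b6, mul_a7, mul_a8, mul_b8,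
    c1, c2, d1, d2, d3, d4, d5, d6, zero_mul, mul_zero, add_zero, zero_add, map_zero, pow_zero, ne_eq,
    OfNat.ofNat_ne_zero, not_false_eq_true, zero_pow]
  all_goals first
    | ring1
    | linear_combination (-(c.a4 * σ d.a4) - c.a6 * d.a3 - c.a7 * d.b2 - c.a6 * d.a4 * c.a2 - c.a7 * d.a4 * c.a1) * h2
    | linear_combination (-(c.a6 * d.a4)) * h2
    | linear_combination (-(c.a7 * d.a4)) * h2

/-- `[QA, QA] ≤ E` -/
theorem comm_QA {x y : U} (hx : x ∈ T.QA) (hy : y ∈ T.QA) : x * y * x⁻¹ * y⁻¹ ∈ T.E := by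
  have h8 : x * y * x⁻¹ * y⁻¹ ∈ T.QA :=
    T.QA.mul_mem (T.QA.mul_mem (T.QA.mul_mem hx hy) (T.QA.inv_mem hx)) (T.QA.inv_mem hy)
  have e : co T (x * y * x⁻¹ * y⁻¹ * (y * x)) = co T (x * y) := by
    congr 1
    group
  rw [mem_E hK]
  rw [mem_QA hK] at hx hy h8
  rw [co_mul hK, co_mul hK T y x, co_mul hK T x y] at e
  generalize co T (x * y * x⁻¹ * y⁻¹) = k at e h8 ⊢
  generalize co T x = c at e hx
  generalize co T y = d at e hy
  obtain ⟨c1, c2⟩ := hx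
  obtain ⟨d1, d2⟩ := hy
  obtain ⟨k1, k2⟩ := h8
  have f1 := congrArg Cd.a1 e
  have f2 := congrArg Cd.a2 e
  have f4 := congrArg Cd.a4 e
  have f6 := congrArg Cd.a6 e
  have f7 := congrArg Cd.a7 e
  simp only [mul_a1, mul_a2, mul_a4, mul_a6, mul_a7, mul_a8, mul_b8, c1, c2, d1, d2, k1, k2, zero_mul, mul_zero,
    add_zero, zero_add, map_zero, pow_zero, ne_eq, OfNat.ofNat_ne_zero, not_false_eq_true, zero_pow] at f1 f2 f4 f6 f7
  exact ⟨by linear_combination f1, by linear_combination f2, by linear_combination f4, by linear_combination f6,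
    by linear_combination f7, k1, k2⟩

theorem comm_QA_E_mem {x e : U} (hx : x ∈ T.QA) (he : e ∈ T.E) : x * e * x⁻¹ * e⁻¹ ∈ T.Z4 := by
  rw [mem_Z4' hK, comm_QA_E hK T hx he]
  exact ⟨rfl, rfl, rfl, rfl, rfl, rfl, rfl, rfl, rfl, rfl, rfl⟩

/-- an involution in `D` lies in `E` -/
theorem mem_E_of_D {y : U} (hy : y ∈ T.D) (h : y * y = 1) : y ∈ T.E := by
  have e := congrArg (co T) h
  rw [co_mul hK, co_one] at e
  rw [mem_D hK] at hy
  rw [mem_E hK]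
  have h2 := hK.two
  generalize co T y = c at e hy ⊢
  obtain ⟨d1, d2, d3, d4, d5, d6⟩ := hy
  have f := congrArg Cd.b4 e
  simp only [mul_b4, d1, d2, d3, d4, d5, d6, zero_mul, mul_zero,
    add_zero, zero_add, map_zero, pow_zero, ne_eq, OfNat.ofNat_ne_zero, not_false_eq_true, zero_pow] at f
  have f4 : c.a4 * σ c.a4 = 0 := by linear_combination f - c.b4 * h2
  have f5 : c.a4 = 0 := by
    rcases mul_eq_zero.1 f4 with h | h
    · exact h
    · exact (map_eq_zero σ).1 h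
  exact ⟨d1, d2, f5, d3, d4, d5, d6⟩

/-- the centralizer of `E` contains `D` -/
theorem comm_D_E {d e : U} (hd : d ∈ T.D) (he : e ∈ T.E) : d * e * d⁻¹ * e⁻¹ = 1 := by
  apply co_injective T
  rw [comm_QA_E hK T (D_le_QA hK T hd) he, co_one]
  rw [mem_D hK] at hd
  obtain ⟨d1, d2, d3, d4, d5, d6⟩ := hd
  simp [d1, d2, d3, d4]

/-- `Z4 ≤ Φ(R)` -/
theorem Z4_le_Phi (hphi : StPhi.{v}) {R : Subgroup U} {Γ : Subgroup (MulAut R)} (hE : Ess (⊤ : Subgroup U) R 2 Γ)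
    (hV : T.V ≤ R) {r : U} (hr : r ∈ R) (h1 : (co T r).a1 ≠ 0) : T.Z4 ≤ Phi R := by
  haveI := finite_U hK T
  intro z hz
  obtain ⟨w, rfl⟩ := (mem_Z4 hK T).1 hz
  have h := (hphi R 2 Nat.prime_two inferInstance (hE.pgr.to_le hE.E_le)).2.1 r hr (T.x6 0 (w * (co T r).a1⁻¹))
    (hV (Z6_le_V T (x6_mem_Z T _)))
  have e0 : T.x4 0 w = r * T.x6 0 (w * (co T r).a1⁻¹) * r⁻¹ * (T.x6 0 (w * (co T r).a1⁻¹))⁻¹ := by
    apply co_injective T
    rw [comm_U_Y hK T (V_le_Y hK T (Z6_le_V T (x6_mem_Z T _))), co_x6, co_x4]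
    have e0 : w * (co T r).a1⁻¹ * (co T r).a1 = w := inv_mul_cancel_right₀ h1 w
    simp [e4, e6, e0]
  rw [e0]
  exact h

end

/-- **(ESS5a)** -/
theorem stEss5a_of (hphi : StPhi.{v}) (hhull : StHull.{v}) : StEss5a.{u, v} := by
  intro K _ σ m hK U _ T R Γ hE hY hRA hRB
  by_contra hER
  obtain ⟨r, hr, hrB⟩ := SetLike.not_le_iff_exists.1 hRB
  have hr1 : (co T r).a1 ≠ 0 := fun h => hrB ((mem_QB hK T).2 h)
  have hZΦ := Z4_le_Phi hK T hphi hE ((V_le_Y hK T).trans hY) hr hr1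
  obtain ⟨γ, hγ, v0, hv0, a, ha, hcon⟩ := hhull hE T.E T.Z4 le_top ((Z4_le_Y T).trans hY) (fun a ha r hr => by
    have h1 : a * r * a⁻¹ * r⁻¹ = (r * a * r⁻¹ * a⁻¹)⁻¹ := by group
    rw [h1]
    exact T.Z4.inv_mem (comm_QA_E_mem hK T (hRA hr) ha)) hER
  apply hcon
  apply hZΦ
  have h1 : a * ((γ v0 : R) : U) * a⁻¹ * ((γ v0 : R) : U)⁻¹ =
      (((γ v0 : R) : U) * a * ((γ v0 : R) : U)⁻¹ * a⁻¹)⁻¹ := by group
  rw [h1]
  exact T.Z4.inv_mem (comm_QA_E_mem hK T (hRA (γ v0).2) ha)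

section

variable {K : Type u} [Field K] {σ : K →+* K} {m : ℕ} (hK : HypK σ m)
variable {U : Type v} [Group U] (T : TF σ U)

include hK

/-- an involution in `QA ∩ QB` has `a2 = a4 = a6 = 0` -/
theorem invol_QAB {y : U} (hA : y ∈ T.QA) (h1 : (co T y).a1 = 0) (h : y * y = 1) :
    (co T y).a2 = 0 ∧ (co T y).a4 = 0 ∧ (co T y).a6 = 0 := by
  have e := congrArg (co T) h
  rw [co_mul hK, co_one] at e
  rw [mem_QA hK] at hA
  have h2 := hK.two
  generalize co T y = c at e hA h1 ⊢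
  obtain ⟨d1, d2⟩ := hA
  have hz : ∀ x : K, x * σ x = 0 → x = 0 := by
    intro x hx
    rcases mul_eq_zero.1 hx with h | h
    · exact h
    · exact (map_eq_zero σ).1 h
  have f1 := congrArg Cd.b2 e
  simp only [mul_b2, h1, d1, d2, zero_mul, mul_zero, add_zero, zero_add, map_zero, pow_zero, ne_eq,
    OfNat.ofNat_ne_zero, not_false_eq_true, zero_pow] at f1
  have c2 : c.a2 = 0 := hz _ (by linear_combination f1 - c.b2 * h2)
  have f2 := congrArg Cd.a5 e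
  simp only [mul_a5, h1, d1, d2, c2, zero_mul, mul_zero, add_zero, zero_add, map_zero, pow_zero, ne_eq,
    OfNat.ofNat_ne_zero, not_false_eq_true, zero_pow] at f2
  have f3 : c.a6 * c.a4 = 0 := by linear_combination f2 - c.a5 * h2
  have f4 := congrArg Cd.b4 e
  simp only [mul_b4, h1, d1, d2, c2, zero_mul, mul_zero, add_zero, zero_add, map_zero, pow_zero, ne_eq,
    OfNat.ofNat_ne_zero, not_false_eq_true, zero_pow] at f4
  have f6 := congrArg Cd.b6 e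
  simp only [mul_b6, h1, d1, d2, c2, zero_mul, mul_zero, add_zero, zero_add, map_zero, pow_zero, ne_eq,
    OfNat.ofNat_ne_zero, not_false_eq_true, zero_pow] at f6
  have c6 : c.a6 = 0 := by
    rcases mul_eq_zero.1 f3 with h | h
    · exact h
    · rw [h] at f6
      exact hz _ (by linear_combination f6 - c.b6 * h2)
  rw [c6] at f6 f4
  have f7 : c.a7 * c.a4 = 0 := by linear_combination f6 - c.b6 * h2
  refine ⟨c2, ?_, c6⟩
  rcases mul_eq_zero.1 f7 with h | h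
  · rw [h] at f4
    exact hz _ (by linear_combination f4 - c.b4 * h2)
  · exact h

/-- the common part of ESS5b and ESS5c -/
theorem common (hcj : StConj.{v}) (hinv : StInv.{u, v}) {R : Subgroup U} {Γ : Subgroup (MulAut R)}
    (hE : Ess (⊤ : Subgroup U) R 2 Γ) (hER : T.E ≤ R) (hRA : R ≤ T.QA) (hRB : ¬ R ≤ T.QB)
    {γ : MulAut R} {v0 : R} (hv0 : (v0 : U) ∈ T.E) (hyD : ((γ v0 : R) : U) ∉ T.D) (hyy : v0 * v0 = 1) :
    ∃ x : U, ∃ t : K, t ≠ 0 ∧ x * ((γ v0 : R) : U) * x⁻¹ = T.x1 t ∧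
      ∀ r ∈ R, (x * r * x⁻¹) * T.x1 t * (x * r * x⁻¹)⁻¹ * (T.x1 t)⁻¹ ∈ T.Z4 := by
  haveI := finite_U hK T
  set y : U := ((γ v0 : R) : U) with hy
  have hyR : y ∈ R := (γ v0).2
  have hyy : y * y = 1 := by
    have h2 := congrArg (fun e : R => ((γ e : R) : U)) hyy
    simp only [map_mul, map_one, Subgroup.coe_mul, Subgroup.coe_one] at h2
    exact h2
  have hyA : y ∈ T.QA := hRA hyR
  -- `γ(Z4) = Z4`
  have h1 : ∀ r ∈ R, ∃ z : R, (z : U) ∈ T.Z4 ∧ r * y * r⁻¹ * y⁻¹ = ((γ z : R) : U) := by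
    intro r hr
    refine ⟨γ⁻¹ ⟨r, hr⟩ * v0 * (γ⁻¹ ⟨r, hr⟩)⁻¹ * v0⁻¹, ?_, ?_⟩
    · exact comm_QA_E_mem hK T (hRA (γ⁻¹ ⟨r, hr⟩).2) hv0
    · simp only [map_mul, map_inv, MulAut.apply_inv_self]
      rfl
  have h2' : ∀ w : K, ∃ e : U, e ∈ T.E ∧ co T (y * e * y⁻¹ * e⁻¹) = ⟨0, 0, 0, 0, 0, w, 0, 0, 0, 0, 0, 0⟩ := by
    intro w
    rw [mem_D hK] at hyD
    rw [mem_QA hK] at hyA
    obtain ⟨a8, b8⟩ := hyA
    by_cases c1 : (co T y).a1 = 0
    · by_cases c2 : (co T y).a2 = 0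
      · by_cases c6 : (co T y).a6 = 0
        · by_cases c7 : (co T y).a7 = 0
          · exact absurd ⟨c1, c2, c6, c7, a8, b8⟩ hyD
          · refine ⟨T.x2 0 (w * (co T y).a7⁻¹), Z2_le_E T (x2_mem_Z T _), ?_⟩
            rw [comm_QA_E hK T ((mem_QA hK T).2 ⟨a8, b8⟩) (Z2_le_E T (x2_mem_Z T _)), co_x2]
            simp [e2, c1, c2, c6, mul_comm w, mul_inv_cancel_left₀ c7]
        · refine ⟨T.x3 (w * (co T y).a6⁻¹), X3_le_E T (x3_mem T _), ?_⟩
          rw [comm_QA_E hK T ((mem_QA hK T).2 ⟨a8, b8⟩) (X3_le_E T (x3_mem T _)), co_x3]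
          simp [e3, c1, c2, mul_comm w, mul_inv_cancel_left₀ c6]
      · refine ⟨T.x5 (w * (co T y).a2⁻¹), X5_le_E T (x5_mem T _), ?_⟩
        rw [comm_QA_E hK T ((mem_QA hK T).2 ⟨a8, b8⟩) (X5_le_E T (x5_mem T _)), co_x5]
        simp [e5, c1, mul_comm w, mul_inv_cancel_left₀ c2]
    · refine ⟨T.x6 0 (w * (co T y).a1⁻¹), Z6_le_E T (x6_mem_Z T _), ?_⟩
      rw [comm_QA_E hK T ((mem_QA hK T).2 ⟨a8, b8⟩) (Z6_le_E T (x6_mem_Z T _)), co_x6]
      simp [e6, mul_comm w, mul_inv_cancel_left₀ c1]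
  have h2 : ∀ z ∈ T.Z4, ∃ z' : R, (z' : U) ∈ T.Z4 ∧ z = ((γ z' : R) : U) := by
    intro z hz
    obtain ⟨w, rfl⟩ := (mem_Z4 hK T).1 hz
    obtain ⟨e, he, hee⟩ := h2' w
    obtain ⟨z', hz', h3⟩ := h1 e (hER he)
    refine ⟨z', hz', ?_⟩
    rw [← h3]
    have h4 : e * y * e⁻¹ * y⁻¹ = (y * e * y⁻¹ * e⁻¹)⁻¹ := by group
    have h5 := comm_QA_E_mem hK T hyA he
    have h6 : (y * e * y⁻¹ * e⁻¹)⁻¹ = y * e * y⁻¹ * e⁻¹ :=
      inv_eq_of_mul_eq_one_left (sq_V hK T (Z4_le_V T h5))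
    rw [h4, h6]
    apply co_injective T
    rw [hee, co_x4]
    rfl
  have h3 : ∀ z' : R, (z' : U) ∈ T.Z4 → ((γ z' : R) : U) ∈ T.Z4 := by
    intro z' hz'
    choose f hf1 hf2 using h2
    let F : T.Z4 → T.Z4 := fun z => ⟨f z z.2, hf1 z z.2⟩
    have hF : Function.Injective F := by
      intro z w hzw
      have h4 : ((f z z.2 : R) : U) = ((f w w.2 : R) : U) := congrArg (fun g : T.Z4 => (g : U)) hzw
      have h5 : f z z.2 = f w w.2 := Subtype.ext h4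
      apply Subtype.ext
      rw [hf2 z z.2, hf2 w w.2, h5]
    obtain ⟨z, hz⟩ := Finite.surjective_of_injective hF ⟨z', hz'⟩
    have h4 : ((f z z.2 : R) : U) = (z' : U) := congrArg (fun g : T.Z4 => (g : U)) hz
    have h5 : f z z.2 = z' := Subtype.ext h4
    rw [← h5, ← hf2 z z.2]
    exact z.2
  have hRy : ∀ r ∈ R, r * y * r⁻¹ * y⁻¹ ∈ T.Z4 := by
    intro r hr
    obtain ⟨z, hz, h4⟩ := h1 r hr
    rw [h4]
    exact h3 z hz
  -- `y ∉ QB`
  have hyB : y ∉ T.QB := by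
    intro hyB
    have c1 := (mem_QB hK T).1 hyB
    obtain ⟨c2, c4, c6⟩ := invol_QAB hK T hyA c1 hyy
    obtain ⟨c8, d8⟩ := (mem_QA hK T).1 hyA
    have c7 : (co T y).a7 ≠ 0 := fun h => hyD ((mem_D hK T).2 ⟨c1, c2, c6, h, c8, d8⟩)
    obtain ⟨r, hr, hrB⟩ := SetLike.not_le_iff_exists.1 hRB
    have hr1 : (co T r).a1 ≠ 0 := fun h => hrB ((mem_QB hK T).2 h)
    obtain ⟨w, hw⟩ := (mem_Z4 hK T).1 (hRy r hr)
    have e : co T (T.x4 0 w * (y * r)) = co T (r * y) := by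
      rw [← hw]
      congr 1
      group
    obtain ⟨r8, s8⟩ := (mem_QA hK T).1 (hRA hr)
    rw [co_mul hK, co_mul hK, co_mul hK, co_x4] at e
    have f := congrArg Cd.a3 e
    generalize co T r = d at f hr1 r8 s8
    generalize co T y = c at f c1 c2 c4 c6 c7 c8 d8
    simp only [mul_a1, mul_a2, mul_b2, mul_a3, mul_a4, mul_b4, mul_a5, mul_a6, mul_b6, mul_a7, mul_a8, mul_b8,
      c1, c2, c4, c6, c8, d8, r8, s8, e4, zero_mul, mul_zero, add_zero, zero_add, map_zero, pow_zero, ne_eq,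
      OfNat.ofNat_ne_zero, not_false_eq_true, zero_pow] at f
    have f1 : c.a7 * σ d.a1 = 0 := by linear_combination f
    rcases mul_eq_zero.1 f1 with h | h
    · exact c7 h
    · exact hr1 ((map_eq_zero σ).1 h)
  obtain ⟨x, t, ht, hxt⟩ := hinv hK T y hyy hyB
  refine ⟨x, t, ht, hxt, fun r hr => ?_⟩
  rw [← hxt]
  have h4 : x * r * x⁻¹ * (x * y * x⁻¹) * (x * r * x⁻¹)⁻¹ * (x * y * x⁻¹)⁻¹ =
      x * (r * y * r⁻¹ * y⁻¹) * x⁻¹ := by group
  rw [h4]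
  have h5 : x * (r * y * r⁻¹ * y⁻¹) * x⁻¹ =
      (x * (r * y * r⁻¹ * y⁻¹) * x⁻¹ * (r * y * r⁻¹ * y⁻¹)⁻¹) * (r * y * r⁻¹ * y⁻¹) := by group
  rw [h5]
  exact T.Z4.mul_mem (comm_mem_Z4 hK T (Z4_le_V T (hRy r hr))) (hRy r hr)

end

/-- **(ESS5c)** -/
theorem stEss5c_of (hphi : StPhi.{v}) (hch : StCh.{v}) (hcj : StConj.{v}) (hinv : StInv.{u, v}) : StEss5c.{u, v} := by
  intro K _ σ m hK U _ T R Γ hE hDR hRA hRB
  haveI := finite_U hK T
  haveI := D_normal hK T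
  have hER : T.E ≤ R := (E_le_D hK T).trans hDR
  obtain ⟨r, hr, hrB⟩ := SetLike.not_le_iff_exists.1 hRB
  have hr1 : (co T r).a1 ≠ 0 := fun h => hrB ((mem_QB hK T).2 h)
  have hZΦ := Z4_le_Phi hK T hphi hE ((V_le_E hK T).trans hER) hr hr1
  have hZR : T.Z4 ≤ R := (Z4_le_E T).trans hER
  have hEE : ∀ v0 : R, (v0 : U) ∈ T.E → v0 * v0 = 1 := by
    intro v0 hv0
    apply Subtype.ext
    apply co_injective T
    rw [Subgroup.coe_mul, co_mul hK, Subgroup.coe_one, co_one]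
    rw [mem_E hK] at hv0
    have h2 := hK.two
    generalize co T (v0 : U) = d at hv0 ⊢
    obtain ⟨d1, d2, d3, d4, d5, d6, d7⟩ := hv0
    ext <;> simp only [mul_a1, mul_a2, mul_b2, mul_a3, mul_a4, mul_b4, mul_a5, mul_a6, mul_b6, mul_a7, mul_a8, mul_b8,
      d1, d2, d3, d4, d5, d6, d7, zero_mul, mul_zero, add_zero, zero_add, map_zero, pow_zero, ne_eq,
      OfNat.ofNat_ne_zero, not_false_eq_true, zero_pow]
    all_goals first
      | linear_combination d.b2 * h2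
      | linear_combination d.a3 * h2
      | linear_combination d.b4 * h2
      | linear_combination d.a5 * h2
      | linear_combination d.b6 * h2
  have hIE : Inv Γ T.E := by
    refine ⟨hER, fun γ hγ v0 hv0 => ?_⟩
    by_cases hD : ((γ v0 : R) : U) ∈ T.D
    · refine mem_E_of_D hK T hD ?_
      have h2 := congrArg (fun e : R => ((γ e : R) : U)) (hEE v0 hv0)
      simp only [map_mul, map_one, Subgroup.coe_mul, Subgroup.coe_one] at h2
      exact h2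
    · exfalso
      obtain ⟨x, t, ht, hxt, hx⟩ := common hK T hcj hinv hE hER hRA hRB hv0 hD (hEE v0 hv0)
      have h1 : x⁻¹ * T.x4 1 0 * x ∈ R := by
        apply hDR
        have := (D_normal hK T).conj_mem (T.x4 1 0) (X4_le_D T (x4_mem T 1 0)) x⁻¹
        rwa [inv_inv] at this
      have h2 := hx _ h1
      have h3 : x * (x⁻¹ * T.x4 1 0 * x) * x⁻¹ = T.x4 1 0 := by group
      rw [h3] at h2
      have h4 := (cond_C hK T ht h2).1
      rw [co_x4] at h4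
      exact one_ne_zero h4
  have hIZ : Inv Γ T.Z4 := by
    refine ⟨hZR, fun γ hγ z hz => ?_⟩
    obtain ⟨w, hw⟩ := (mem_Z4 hK T).1 hz
    have e0 : T.x4 0 w = r * T.x6 0 (w * (co T r).a1⁻¹) * r⁻¹ * (T.x6 0 (w * (co T r).a1⁻¹))⁻¹ := by
      apply co_injective T
      rw [comm_U_Y hK T (V_le_Y hK T (Z6_le_V T (x6_mem_Z T _))), co_x6, co_x4]
      have e0 : w * (co T r).a1⁻¹ * (co T r).a1 = w := inv_mul_cancel_right₀ hr1 w
      simp [e4, e6, e0]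
    have hz' : z = ⟨r, hr⟩ * ⟨T.x6 0 (w * (co T r).a1⁻¹), hER (Z6_le_E T (x6_mem_Z T _))⟩ * (⟨r, hr⟩ : R)⁻¹ *
        (⟨T.x6 0 (w * (co T r).a1⁻¹), hER (Z6_le_E T (x6_mem_Z T _))⟩ : R)⁻¹ := by
      apply Subtype.ext
      rw [hw, e0]
      rfl
    rw [hz']
    simp only [map_mul, map_inv, Subgroup.coe_mul, Subgroup.coe_inv]
    exact comm_QA_E_mem hK T (hRA (γ ⟨r, hr⟩).2) (hIE.2 γ hγ _ (Z6_le_E T (x6_mem_Z T _)))
  have hQR : T.QA ≤ R := by
    refine hch hE 2 (fun i => if i = 0 then T.Z4 else if i = 1 then T.E else R) (by simpa using hZΦ) (by simp) ?_ ?_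
      T.QA le_top ?_
    · intro i hi
      interval_cases i
      · simpa using hIZ
      · simpa using hIE
      · simp only [OfNat.ofNat_ne_zero, ↓reduceIte, OfNat.ofNat_ne_one]
        exact ⟨le_rfl, fun γ _ e _ => (γ e).2⟩
    · intro i hi
      interval_cases i
      · simpa using Z4_le_E T
      · simpa using hER
    · intro i hi
      interval_cases i
      · have h : Com T.QA T.E T.Z4 := fun x hx e he => comm_QA_E_mem hK T hx he
        simpa using h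
      · have h : Com T.QA R T.E := fun x hx e he => comm_QA hK T hx (hRA he)
        simpa using h
  exact le_antisymm hRA hQR

section

variable {K : Type u} [Field K] {σ : K →+* K} {m : ℕ} (hK : HypK σ m)
variable {U : Type v} [Group U] (T : TF σ U)

include hK

/-- `X1 X2 E` -/
theorem exists_M : ∃ M : Subgroup U, (∀ g, g ∈ M ↔ (co T g).a4 = 0 ∧ (co T g).a6 = 0 ∧ (co T g).a7 = 0 ∧
    (co T g).a8 = 0 ∧ (co T g).b8 = 0) ∧ Nat.card M = (2 ^ (2 * m + 1)) ^ 7 := by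
  obtain ⟨S, hS⟩ := exists_sub hK T (fun c => c.a4 = 0 ∧ c.a6 = 0 ∧ c.a7 = 0 ∧ c.a8 = 0 ∧ c.b8 = 0)
    (⟨rfl, rfl, rfl, rfl, rfl⟩) (by
    rintro c d ⟨hc0, hc1, hc2, hc3, hc4⟩ ⟨hd0, hd1, hd2, hd3, hd4⟩
    refine ⟨?_, ?_, ?_, ?_, ?_⟩ <;>
      simp only [mul_a1, mul_a2, mul_b2, mul_a3, mul_a4, mul_a6, mul_a7, mul_a8, mul_b8, hc0, hc1, hc2, hc3, hc4,
        hd0, hd1, hd2, hd3, hd4, zero_mul, mul_zero, add_zero, zero_add, map_zero,
        pow_zero, ne_eq, OfNat.ofNat_ne_zero, not_false_eq_true, zero_pow])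
  refine ⟨S, hS, ?_⟩
  refine card_of_mask hK T ![true, true, true, true, false, true, true, false, true, false, false, false] (by rfl)
    S fun g => ?_
  rw [hS]
  constructor
  · rintro ⟨z0, z1, z2, z3, z4⟩ i hi
    fin_cases i <;> first | exact z0 | exact z1 | exact z2 | exact z3 | exact z4 | exact absurd hi (by decide)
  · intro h
    exact ⟨h 4 rfl, h 7 rfl, h 9 rfl, h 10 rfl, h 11 rfl⟩

/-- `Z2 Z4` -/
theorem exists_ZZ : ∃ M : Subgroup U, (∀ g, g ∈ M ↔ (co T g).a1 = 0 ∧ (co T g).a2 = 0 ∧ (co T g).a3 = 0 ∧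
    (co T g).a4 = 0 ∧ (co T g).a5 = 0 ∧ (co T g).a6 = 0 ∧ (co T g).b6 = 0 ∧ (co T g).a7 = 0 ∧
    (co T g).a8 = 0 ∧ (co T g).b8 = 0) ∧ Nat.card M = (2 ^ (2 * m + 1)) ^ 2 := by
  obtain ⟨S, hS⟩ := exists_sub hK T (fun c => c.a1 = 0 ∧ c.a2 = 0 ∧ c.a3 = 0 ∧
    c.a4 = 0 ∧ c.a5 = 0 ∧ c.a6 = 0 ∧ c.b6 = 0 ∧ c.a7 = 0 ∧ c.a8 = 0 ∧ c.b8 = 0)
    (⟨rfl, rfl, rfl, rfl, rfl, rfl, rfl, rfl, rfl, rfl⟩) (by
    rintro c d ⟨hc0, hc1, hc2, hc3, hc4, hc5, hc6, hc7, hc8, hc9⟩ ⟨hd0, hd1, hd2, hd3, hd4, hd5, hd6, hd7, hd8, hd9⟩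
    refine ⟨?_, ?_, ?_, ?_, ?_, ?_, ?_, ?_, ?_, ?_⟩ <;>
      simp only [mul_a1, mul_a2, mul_b2, mul_a3, mul_a4, mul_a5, mul_a6, mul_b6, mul_a7, mul_a8, mul_b8, hc0, hc1, hc2,
        hc3, hc4, hc5, hc6, hc7, hc8, hc9,
        hd0, hd1, hd2, hd3, hd4, hd5, hd6, hd7, hd8, hd9, zero_mul, mul_zero, add_zero, zero_add, map_zero,
        pow_zero, ne_eq, OfNat.ofNat_ne_zero, not_false_eq_true, zero_pow])
  refine ⟨S, hS, ?_⟩
  refine card_of_mask hK T ![false, false, true, false, false, true, false, false, false, false, false, false] (by rfl)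
    S fun g => ?_
  rw [hS]
  constructor
  · rintro ⟨z0, z1, z2, z3, z4, z5, z6, z7, z8, z9⟩ i hi
    fin_cases i <;> first | exact z0 | exact z1 | exact z2 | exact z3 | exact z4 | exact z5 | exact z6 | exact z7 | exact z8 | exact z9 | exact absurd hi (by decide)
  · intro h
    exact ⟨h 0 rfl, h 1 rfl, h 3 rfl, h 4 rfl, h 6 rfl, h 7 rfl, h 8 rfl, h 9 rfl, h 10 rfl, h 11 rfl⟩

/-- ESS5b after conjugation -/
theorem core5b (hphi : StPhi.{v}) (hp2 : StP2.{v}) {R : Subgroup U} {Γ : Subgroup (MulAut R)}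
    (hE : Ess (⊤ : Subgroup U) R 2 Γ) (hER : T.E ≤ R) (hD : ¬ T.D ≤ R) {t : K} (ht : t ≠ 0) (htR : T.x1 t ∈ R)
    (hx : ∀ r ∈ R, r * T.x1 t * r⁻¹ * (T.x1 t)⁻¹ ∈ T.Z4) : False := by
  haveI := finite_U hK T
  have hC := fun r hr => cond_C hK T ht (hx r hr)
  obtain ⟨W, hW, cW⟩ := exists_W hK T
  obtain ⟨M, hM, cM⟩ := exists_M hK T
  obtain ⟨ZZ, hZZ, cZZ⟩ := exists_ZZ hK T
  have hWE : W ≤ T.E := by
    intro w hw
    obtain ⟨z0, z1, z2, z3, z4, z5, z6, z7, z8⟩ := (hW w).1 hw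
    exact (mem_E hK T).2 ⟨z0, z1, z2, z4, z6, z7, z8⟩
  have hZZE : ZZ ≤ T.E := by
    intro w hw
    obtain ⟨z0, z1, z2, z3, z4, z5, z6, z7, z8, z9⟩ := (hZZ w).1 hw
    exact (mem_E hK T).2 ⟨z0, z1, z3, z5, z7, z8, z9⟩
  have hZW : T.Z4 ≤ W := by
    intro w hw
    obtain ⟨z0, z1, z2, z3, z4, z5, z6, z7, z8, z9, z10⟩ := (mem_Z4' hK T).1 hw
    exact (hW w).2 ⟨z0, z1, z4, z5, z6, z7, z8, z9, z10⟩
  have hZE : T.Z4 ≤ T.E := Z4_le_E T
  have hZΦ := Z4_le_Phi hK T hphi hE ((V_le_E hK T).trans hER) htR (by rw [co_x1]; exact ht)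
  have hRA : R ≤ T.QA := fun r hr => (mem_QA hK T).2 ⟨(hC r hr).2.2.2.1, (hC r hr).2.2.2.2⟩
  have hRM : R ≤ M := fun r hr => (hM r).2 (hC r hr)
  have hcD : ∀ d ∈ T.D, ∀ e ∈ R, d * e * d⁻¹ * e⁻¹ ∈ W := by
    intro d hd e he
    obtain ⟨c4, c6, c7, c8, d8⟩ := hC e he
    rw [hW, comm_D_QA hK T hd (hRA he), c6, c7]
    exact ⟨rfl, rfl, rfl, zero_mul _, rfl, zero_mul _, rfl, rfl, rfl⟩
  have hcA : ∀ a ∈ T.QA, ∀ e ∈ R, a * e * a⁻¹ * e⁻¹ ∈ T.E := fun a ha e he => comm_QA hK T ha (hRA he)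
  have hnA : T.QA ≤ normalizerIn ⊤ R := norm_of_comm fun a ha e he => hER (hcA a ha e he)
  have hnD : T.D ≤ normalizerIn ⊤ R := (D_le_QA hK T).trans hnA
  have hP := hp2 hE T.QA T.D T.E W T.Z4 T.Z4 hnA hnD hD hER (hWE.trans hER) hcA hcD hZΦ hZΦ
  have e1 := relc' hZE
  rw [card_Z4 hK, card_E hK] at e1
  have e2 := relc' hZW
  rw [card_Z4 hK, cW] at e2
  have e3 := relc' hRA
  rw [card_QA hK] at e3
  have e4 := relc' hRM
  rw [cM] at e4
  set q := 2 ^ (2 * m + 1) with hq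
  have hq1 : 0 < q := by positivity
  have hq2 : 2 ≤ q := by
    rw [hq, pow_succ]
    have : 0 < 2 ^ (2 * m) := by positivity
    omega
  have f1 : T.Z4.relIndex T.E = q ^ 4 := by
    have : T.Z4.relIndex T.E * q = q ^ 4 * q := by rw [e1]; ring
    exact Nat.eq_of_mul_eq_mul_right hq1 this
  have f2 : T.Z4.relIndex W = q ^ 2 := by
    have : T.Z4.relIndex W * q = q ^ 2 * q := by rw [e2]; ring
    exact Nat.eq_of_mul_eq_mul_right hq1 this
  rw [f1, f2] at hP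
  have f3 : R.relIndex T.QA ≤ q ^ 3 := by
    have h1 : (R.relIndex T.QA) ^ 2 ≤ (q ^ 3) ^ 2 := hP.trans (le_of_eq (by ring))
    exact (Nat.pow_le_pow_iff_left two_ne_zero).1 h1
  have f4 : q ^ 7 ≤ Nat.card R := by
    have h1 : q ^ 3 * q ^ 7 ≤ q ^ 3 * Nat.card R := by
      calc q ^ 3 * q ^ 7 = R.relIndex T.QA * Nat.card R := by rw [e3]; ring
        _ ≤ q ^ 3 * Nat.card R := Nat.mul_le_mul_right _ f3
    exact Nat.le_of_mul_le_mul_left h1 (by positivity)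
  have hMR : R = M := by
    apply Subgroup.eq_of_le_of_card_ge hRM
    rw [cM]
    exact f4
  have hZZΦ : ZZ ≤ Phi R := by
    intro z hz
    haveI := hK.fin
    obtain ⟨p, hp⟩ := Cfsg.Agent.H659.TF.exists_sq hK.two hK.sq (co T z).b2
    obtain ⟨z0, z1, z2, z3, z4, z5, z6, z7, z8, z9⟩ := (hZZ z).1 hz
    have h1 : T.x2 p 0 ∈ R := by
      rw [hMR, hM, co_x2]
      exact ⟨rfl, rfl, rfl, rfl, rfl⟩
    have h2 := (hphi R 2 Nat.prime_two inferInstance (hE.pgr.to_le hE.E_le)).2.2.1 _ h1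
    have h3 : z = T.x2 p 0 ^ 2 * T.x4 0 (co T z).b4 := by
      apply co_injective T
      rw [pow_two, co_mul hK, co_mul hK, co_x2, co_x4]
      generalize co T z = c at *
      ext <;> simp only [mul_a1, mul_a2, mul_b2, mul_a3, mul_a4, mul_b4, mul_a5, mul_a6, mul_b6, mul_a7, mul_a8, mul_b8,
        z0, z1, z2, z3, z4, z5, z6, z7, z8, z9, Cfsg.Agent.H752.TF.e2, Cfsg.Agent.H752.TF.e4, zero_mul, mul_zero,
        add_zero, zero_add, map_zero, pow_zero, ne_eq, OfNat.ofNat_ne_zero, not_false_eq_true, zero_pow, hp]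
      linear_combination (-p) * hK.two
    rw [h3]
    exact (Phi R).mul_mem h2 (hZΦ (x4_mem_Z T _))
  have hP2 := hp2 hE T.QA T.D T.E W ZZ T.Z4 hnA hnD hD hER (hWE.trans hER) hcA hcD hZZΦ hZΦ
  have e5 := relc' hZZE
  rw [cZZ, card_E hK, ← hq] at e5
  have f5 : ZZ.relIndex T.E = q ^ 3 := by
    have : ZZ.relIndex T.E * q ^ 2 = q ^ 3 * q ^ 2 := by rw [e5]; ring
    exact Nat.eq_of_mul_eq_mul_right (by positivity) this
  rw [f5, f2] at hP2
  have f6 : R.relIndex T.QA = q ^ 3 := by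
    have : R.relIndex T.QA * q ^ 7 = q ^ 3 * q ^ 7 := by
      have h1 : Nat.card R = q ^ 7 := by rw [hMR, cM]
      rw [← h1, e3, h1]; ring
    exact Nat.eq_of_mul_eq_mul_right (by positivity) this
  rw [f6] at hP2
  have h9 : q ^ 3 * q ^ 2 * 2 ≤ q ^ 3 * q ^ 2 := by
    calc q ^ 3 * q ^ 2 * 2 ≤ q ^ 3 * q ^ 2 * q := Nat.mul_le_mul_left _ hq2
      _ = (q ^ 3) ^ 2 := by ring
      _ ≤ q ^ 3 * q ^ 2 := hP2
  have h10 : 0 < q ^ 3 * q ^ 2 := by positivity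
  omega

end

/-- **(ESS5b)** -/
theorem stEss5b_of (hphi : StPhi.{v}) (hp2 : StP2.{v}) (hhull : StHull.{v}) (hcj : StConj.{v})
    (hinv : StInv.{u, v}) : StEss5b.{u, v} := by
  intro K _ σ m hK U _ T R Γ hE hER hRA hRB
  by_contra hDR
  haveI := finite_U hK T
  haveI := D_normal hK T
  haveI := E_normal hK T
  obtain ⟨γ, hγ, v0, hv0, a, ha, hcon⟩ := hhull hE T.D T.E le_top hER (fun a ha r hr =>
    comm_QA hK T (D_le_QA hK T ha) (hRA hr)) hDR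
  have hvv : v0 * v0 = 1 := by
    apply Subtype.ext
    apply co_injective T
    rw [Subgroup.coe_mul, co_mul hK, Subgroup.coe_one, co_one]
    rw [mem_E hK] at hv0
    have h2 := hK.two
    generalize co T (v0 : U) = d at hv0 ⊢
    obtain ⟨d1, d2, d3, d4, d5, d6, d7⟩ := hv0
    ext <;> simp only [mul_a1, mul_a2, mul_b2, mul_a3, mul_a4, mul_b4, mul_a5, mul_a6, mul_b6, mul_a7, mul_a8, mul_b8,
      d1, d2, d3, d4, d5, d6, d7, zero_mul, mul_zero, add_zero, zero_add, map_zero, pow_zero, ne_eq,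
      OfNat.ofNat_ne_zero, not_false_eq_true, zero_pow]
    all_goals first
      | linear_combination d.b2 * h2
      | linear_combination d.a3 * h2
      | linear_combination d.b4 * h2
      | linear_combination d.a5 * h2
      | linear_combination d.b6 * h2
  have hyD : ((γ v0 : R) : U) ∉ T.D := by
    intro hD
    apply hcon
    have h2 := congrArg (fun e : R => ((γ e : R) : U)) hvv
    simp only [map_mul, map_one, Subgroup.coe_mul, Subgroup.coe_one] at h2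
    have h3 := mem_E_of_D hK T hD h2
    rw [comm_D_E hK T ha h3]
    exact (Phi R).one_mem
  obtain ⟨x, t, ht, hxt, hx⟩ := common hK T hcj hinv hE hER hRA hRB hv0 hyD hvv
  obtain ⟨Γ', hE'⟩ := hcj hE x trivial
  refine core5b hK T hphi hp2 hE' ?_ ?_ ht ⟨((γ v0 : R) : U), (γ v0).2, hxt⟩ ?_
  · intro v hv
    refine ⟨x⁻¹ * v * x, hER ?_, ?_⟩
    · have := (E_normal hK T).conj_mem v hv x⁻¹
      rwa [inv_inv] at this
    · change x * (x⁻¹ * v * x) * x⁻¹ = v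
      group
  · intro h
    apply hDR
    intro w hw
    obtain ⟨r, hr, h4⟩ := h ((D_normal hK T).conj_mem w hw x)
    have h5 : x * r * x⁻¹ = x * w * x⁻¹ := h4
    have h6 : r = w := by
      have := congrArg (fun g => x⁻¹ * g * x) h5
      simpa [mul_assoc] using this
    rwa [← h6]
  · rintro _ ⟨r, hr, rfl⟩
    exact hx r hr

end Cfsg.Agent.H772.TF
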