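import Cfsg.Agent.H772.TF.ConjFive

/-!
# `²F₄(q)`: the group `E3 = ⟨e3, e3b⟩` of order 9 (S2120, task 708)

* `e3b = ck 2 e3`, `E i j = e3 ^ i * e3b ^ j` (`i j : ZMod 3`);
* `Act g a b c d` : `g` acts on `E3` by `e3 ↦ E a b`, `e3b ↦ E c d`;
* `exists_word` : the group generated by the signed permutation matrices and an element of order 3 contains a matrix
  fixing `(1, 0)` and not `(0, 1)` up to sign.
-/

set_option autoImplicit false
set_option linter.unusedSectionVars false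

namespace Cfsg.Agent.H772.TF

open Cfsg.Agent.SplitTwo Cfsg.Agent.SplitTwo.ZS Cfsg.Agent.TitsThree.RankTwoZ
open Cfsg.Agent.KFacts.TwF4 Cfsg.Agent.KFacts.TwF4.Arc
open Subgroup

universe u

variable {F : Type*} [Field F] {σ : F →+* F} {G : Type u} [Group G] (S : Full σ G)

/-- `⟨X_5, X_13⟩` -/
def M5 : Subgroup G := S.XZ 5 ⊔ S.XZ 13

theorem comm_M5 {x y : G} (hx : x ∈ S.LO) (hy : y ∈ M5 S) : x * y = y * x := by
  have hx' : x ∈ S.XZ 1 ⊔ S.XZ (1 + 8) := hx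
  have hy' : y ∈ S.XZ (1 + 4) ⊔ S.XZ (1 + 4 + 8) := hy
  exact H42.Tw.comm_LM S (j := 1) hx' hy'

theorem ck_LO {x : G} (hx : x ∈ S.LO) : S.ck 2 x ∈ M5 S := by
  have : S.LO ≤ (M5 S).comap (S.ck 2).toMonoidHom := by
    refine sup_le (fun y hy => ?_) (fun y hy => ?_)
    · exact Subgroup.mem_sup_left (S.rotk_X' 2 1 hy)
    · exact Subgroup.mem_sup_right (S.rotk_X' 2 9 hy)
  exact this hx

theorem ck_M5 {x : G} (hx : x ∈ M5 S) : S.ck 2 x ∈ S.LO := by
  have : M5 S ≤ S.LO.comap (S.ck 2).toMonoidHom := by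
    refine sup_le (fun y hy => ?_) (fun y hy => ?_)
    · exact Subgroup.mem_sup_right (S.rotk_X' 2 5 hy)
    · refine Subgroup.mem_sup_left ?_
      have := S.rotk_X' 2 13 hy
      rw [XZ_congr S (j := 13 + 2 * 2) (k := 1) (by norm_num)] at this
      exact this
  exact this hx

/-- the second element of order 3 -/
def e3b : G := S.ck 2 (e3 S)

theorem e3b_mem : e3b S ∈ M5 S := ck_LO S (e3_mem S)

theorem e3b_eq : e3b S = S.o 2 1 * S.o 6 1 := by
  rw [e3b, e3, map_mul, S.ck_o, S.ck_o]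
  rfl

theorem ck_e3b : S.ck 2 (e3b S) = (e3 S)⁻¹ := by
  rw [e3b_eq, map_mul, S.ck_o, S.ck_o, e3_inv]
  rfl

theorem e3_pow : e3 S ^ 3 = 1 := by
  rw [pow_succ, pow_two]; exact e3_cube S

theorem e3b_pow : e3b S ^ 3 = 1 := by
  rw [e3b, ← map_pow, e3_pow, map_one]

theorem e3_comm : Commute (e3 S) (e3b S) := comm_M5 S (e3_mem S) (e3b_mem S)

/-- `n1` inverts `e3` and centralizes `e3b` -/
theorem n1_e3b : S.n1 * e3b S * S.n1⁻¹ = e3b S := by
  rw [comm_M5 S S.n1_mem_LO (e3b_mem S), mul_inv_cancel_right]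

/-- `n5 = ck 2 n1` -/
theorem no2_mem : no S 2 ∈ M5 S := ck_LO S S.n1_mem_LO

theorem no2_e3 : no S 2 * e3 S * (no S 2)⁻¹ = e3 S := by
  rw [← comm_M5 S (e3_mem S) (no2_mem S), mul_inv_cancel_right]

theorem no2_e3b : no S 2 * e3b S * (no S 2)⁻¹ = (e3b S)⁻¹ := by
  rw [no, e3b, ← map_inv, ← map_mul, ← map_mul, n1_e3, map_inv]

/-! ### the group `E3` -/

/-- `e3 ^ i * e3b ^ j` -/
def E (i j : ZMod 3) : G := e3 S ^ i.val * e3b S ^ j.val

theorem pow_val_add {x : G} (hx : x ^ 3 = 1) (i j : ZMod 3) : x ^ (i + j).val = x ^ i.val * x ^ j.val := by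
  rw [ZMod.val_add, ← pow_eq_pow_mod _ hx, pow_add]

theorem E_mul (i j i' j' : ZMod 3) : E S i j * E S i' j' = E S (i + i') (j + j') := by
  have hc := (e3_comm S)
  unfold E
  rw [pow_val_add (e3_pow S), pow_val_add (e3b_pow S)]
  have h1 : e3b S ^ j.val * e3 S ^ i'.val = e3 S ^ i'.val * e3b S ^ j.val := ((hc.pow_pow i'.val j.val).eq).symm
  calc e3 S ^ i.val * e3b S ^ j.val * (e3 S ^ i'.val * e3b S ^ j'.val) =
      e3 S ^ i.val * (e3b S ^ j.val * e3 S ^ i'.val) * e3b S ^ j'.val := by group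
    _ = _ := by rw [h1]; group

theorem E_zero : E S 0 0 = 1 := by
  unfold E
  rw [ZMod.val_zero, pow_zero, pow_zero, mul_one]

theorem E_one_zero : E S 1 0 = e3 S := by
  unfold E
  rw [ZMod.val_zero, pow_zero, mul_one]
  exact pow_one _

theorem E_zero_one : E S 0 1 = e3b S := by
  unfold E
  rw [ZMod.val_zero, pow_zero, one_mul]
  exact pow_one _

theorem E_inv (i j : ZMod 3) : (E S i j)⁻¹ = E S (-i) (-j) := by
  rw [inv_eq_iff_mul_eq_one, E_mul, add_neg_cancel, add_neg_cancel, E_zero]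

theorem E_npow (i j : ZMod 3) (n : ℕ) : E S i j ^ n = E S (n * i) (n * j) := by
  induction n with
  | zero => rw [pow_zero, Nat.cast_zero, zero_mul, zero_mul, E_zero]
  | succ n ih => rw [pow_succ, ih, E_mul]; push_cast; congr 1 <;> ring

theorem E_cube (i j : ZMod 3) : E S i j * E S i j * E S i j = 1 := by
  rw [E_mul, E_mul]
  have : ∀ k : ZMod 3, k + k + k = 0 := by decide
  rw [this, this, E_zero]

/-- `e3 ^ i ∈ M5` only for `i = 0` -/
theorem E_mem_M5 {i j : ZMod 3} (h : E S i j ∈ M5 S) : i = 0 := by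
  by_contra hi
  have h1 : E S i 0 ∈ M5 S := by
    have e : E S i 0 = E S i j * (E S 0 j)⁻¹ := by rw [E_inv, E_mul, neg_zero, add_zero, add_neg_cancel]
    rw [e]
    refine mul_mem h (inv_mem ?_)
    unfold E
    rw [ZMod.val_zero, pow_zero, one_mul]
    exact pow_mem (e3b_mem S) _
  have h2 : e3 S ∈ M5 S := by
    have hi2 : ∀ i : ZMod 3, i ≠ 0 → i = 1 ∨ i = 2 := by decide
    rcases hi2 i hi with rfl | rfl
    · rwa [E_one_zero] at h1
    · have e : e3 S = (E S 2 0)⁻¹ := by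
        rw [E_inv, neg_zero, show -(2 : ZMod 3) = 1 by decide, E_one_zero]
      rw [e]; exact inv_mem h1
  have h3 := comm_M5 S S.n1_mem_LO h2
  have h4 := n1_e3 S
  rw [h3, mul_inv_cancel_right] at h4
  -- `e3 = e3⁻¹`
  apply e3_ne S
  have h5 : e3 S * e3 S = 1 := by nth_rw 2 [h4]; exact mul_inv_cancel _
  have h6 := e3_cube S
  rwa [h5, one_mul] at h6

theorem E_inj {i j i' j' : ZMod 3} (h : E S i j = E S i' j') : i = i' ∧ j = j' := by
  have h1 : E S (i - i') (j - j') = 1 := by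
    have : E S (i - i') (j - j') = E S i j * (E S i' j')⁻¹ := by rw [E_inv, E_mul, sub_eq_add_neg, sub_eq_add_neg]
    rw [this, h, mul_inv_cancel]
  have h2 : i - i' = 0 := E_mem_M5 S (by rw [h1]; exact one_mem _)
  rw [h2] at h1
  refine ⟨sub_eq_zero.1 h2, ?_⟩
  have h3 : S.ck 2 (E S 0 (j - j')) = 1 := by rw [h1, map_one]
  have h4 : S.ck 2 (E S 0 (j - j')) = E S (-(j - j')) 0 := by
    unfold E
    rw [ZMod.val_zero, pow_zero, pow_zero, one_mul, mul_one, map_pow, ck_e3b]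
    have h5 := E_inv S (j - j') 0
    unfold E at h5
    rw [neg_zero, ZMod.val_zero, pow_zero, mul_one, mul_one] at h5
    rw [inv_pow, h5]
  rw [h4] at h3
  have h5 : -(j - j') = 0 := E_mem_M5 S (j := 0) (by rw [h3]; exact one_mem _)
  exact sub_eq_zero.1 (neg_eq_zero.1 h5)

/-- the action on `E3` -/
def Act (g : G) (m : ZMod 3 × ZMod 3 × ZMod 3 × ZMod 3) : Prop :=
  g * e3 S * g⁻¹ = E S m.1 m.2.1 ∧ g * e3b S * g⁻¹ = E S m.2.2.1 m.2.2.2

/-- the product -/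
def mm (m m' : ZMod 3 × ZMod 3 × ZMod 3 × ZMod 3) : ZMod 3 × ZMod 3 × ZMod 3 × ZMod 3 :=
  (m'.1 * m.1 + m'.2.1 * m.2.2.1, m'.1 * m.2.1 + m'.2.1 * m.2.2.2,
    m'.2.2.1 * m.1 + m'.2.2.2 * m.2.2.1, m'.2.2.1 * m.2.1 + m'.2.2.2 * m.2.2.2)

theorem Act.conj_E {g : G} {m : ZMod 3 × ZMod 3 × ZMod 3 × ZMod 3} (h : Act S g m) (i j : ZMod 3) :
    g * E S i j * g⁻¹ = E S (i * m.1 + j * m.2.2.1) (i * m.2.1 + j * m.2.2.2) := by
  have e : g * E S i j * g⁻¹ = (g * e3 S * g⁻¹) ^ i.val * (g * e3b S * g⁻¹) ^ j.val := by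
    rw [conj_pow, conj_pow]; unfold E; group
  rw [e, h.1, h.2, E_npow, E_npow, E_mul, ZMod.natCast_zmod_val, ZMod.natCast_zmod_val]

theorem Act.mul {g g' : G} {m m' : ZMod 3 × ZMod 3 × ZMod 3 × ZMod 3} (h : Act S g m) (h' : Act S g' m') :
    Act S (g * g') (mm m m') := by
  constructor
  · have e : g * g' * e3 S * (g * g')⁻¹ = g * (g' * e3 S * g'⁻¹) * g⁻¹ := by group
    rw [e, h'.1, h.conj_E]
    rfl
  · have e : g * g' * e3b S * (g * g')⁻¹ = g * (g' * e3b S * g'⁻¹) * g⁻¹ := by group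
    rw [e, h'.2, h.conj_E]
    rfl

theorem act_one : Act S 1 (1, 0, 0, 1) := by
  constructor
  · rw [one_mul, inv_one, mul_one]; exact (E_one_zero S).symm
  · rw [one_mul, inv_one, mul_one]; exact (E_zero_one S).symm

theorem Act.uniq {g : G} {m m' : ZMod 3 × ZMod 3 × ZMod 3 × ZMod 3} (h : Act S g m) (h' : Act S g m') : m = m' := by
  obtain ⟨h1, h2⟩ := E_inj S (h.1.symm.trans h'.1)
  obtain ⟨h3, h4⟩ := E_inj S (h.2.symm.trans h'.2)
  exact Prod.ext h1 (Prod.ext h2 (Prod.ext h3 h4))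

theorem act_n1 : Act S S.n1 (-1, 0, 0, 1) := by
  constructor
  · have := E_inv S 1 0
    rw [neg_zero] at this
    rw [n1_e3, ← E_one_zero S]; exact this
  · rw [n1_e3b]; exact (E_zero_one S).symm

theorem act_no2 : Act S (no S 2) (1, 0, 0, -1) := by
  constructor
  · rw [no2_e3]; exact (E_one_zero S).symm
  · have := E_inv S 0 1
    rw [neg_zero] at this
    rw [no2_e3b, ← E_zero_one S]; exact this

theorem act_rot : Act S (S.rot ^ (2 : ℤ)) (0, 1, -1, 0) := by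
  constructor
  · show S.ck 2 (e3 S) = _
    exact (E_zero_one S).symm
  · show S.ck 2 (e3b S) = _
    have := E_inv S 1 0
    rw [neg_zero] at this
    rw [ck_e3b, ← E_one_zero S]; exact this

/-! ### signed permutation matrices -/

/-- the signed permutation matrices -/
def D8 : List (ZMod 3 × ZMod 3 × ZMod 3 × ZMod 3) :=
  [(1, 0, 0, 1), (-1, 0, 0, 1), (1, 0, 0, -1), (-1, 0, 0, -1), (0, 1, 1, 0), (0, 1, -1, 0), (0, -1, 1, 0), (0, -1, -1, 0)]

theorem exists_word : ∀ a b c d : ZMod 3, mm (mm (a, b, c, d) (a, b, c, d)) (a, b, c, d) = (1, 0, 0, 1) →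
    (a, b, c, d) ≠ (1, 0, 0, 1) → ∃ x ∈ D8, ∃ y ∈ D8, (mm (mm x (a, b, c, d)) y).1 = 1 ∧
      (mm (mm x (a, b, c, d)) y).2.1 = 0 ∧ (mm (mm x (a, b, c, d)) y).2.2.1 ≠ 0 := by
  decide +kernel

theorem D8_of {P : ZMod 3 × ZMod 3 × ZMod 3 × ZMod 3 → Prop} (hm : ∀ m m', P m → P m' → P (mm m m'))
    (h1 : P (-1, 0, 0, 1)) (h5 : P (1, 0, 0, -1)) (hr : P (0, 1, -1, 0)) : ∀ x ∈ D8, P x := by
  have h0 : P (1, 0, 0, 1) := by
    have := hm _ _ h1 h1
    rwa [show mm (-1, 0, 0, 1) (-1, 0, 0, 1) = (1, 0, 0, 1) by decide] at this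
  have h15 : P (-1, 0, 0, -1) := by
    have := hm _ _ h1 h5
    rwa [show mm (-1, 0, 0, 1) (1, 0, 0, -1) = (-1, 0, 0, -1) by decide] at this
  have r1 : P (0, 1, 1, 0) := by
    have := hm _ _ h1 hr
    rwa [show mm (-1, 0, 0, 1) (0, 1, -1, 0) = (0, 1, 1, 0) by decide] at this
  have r2 : P (0, -1, 1, 0) := by
    have := hm _ _ h15 hr
    rwa [show mm (-1, 0, 0, -1) (0, 1, -1, 0) = (0, -1, 1, 0) by decide] at this
  have r3 : P (0, -1, -1, 0) := by
    have := hm _ _ h5 hr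
    rwa [show mm (1, 0, 0, -1) (0, 1, -1, 0) = (0, -1, -1, 0) by decide] at this
  intro x hx
  simp only [D8, List.mem_cons, List.mem_nil_iff, or_false] at hx
  rcases hx with rfl | rfl | rfl | rfl | rfl | rfl | rfl | rfl <;> assumption

end Cfsg.Agent.H772.TF
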