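import Cfsg.Agent.H772.TF.EThree

/-!
# `²F₄(q)`: conjugates of `X_5` under `C(e3)` (S2120, task 708)
-/

set_option autoImplicit false
set_option linter.unusedSectionVars false

namespace Cfsg.Agent.H772.TF

open Cfsg.Agent.SplitTwo Cfsg.Agent.SplitTwo.ZS Cfsg.Agent.TitsThree.RankTwoZ
open Cfsg.Agent.KFacts.TwF4 Cfsg.Agent.KFacts.TwF4.Arc
open Subgroup

universe u

variable {F : Type*} [Field F] {σ : F →+* F} {G : Type u} [Group G] (S : Full σ G)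

/-- `w` maps `X_k` to `X_{k+2c}` -/
def Tra (c : ℤ) (w : G) : Prop := ∀ k x, x ∈ S.XZ k ↔ w * x * w⁻¹ ∈ S.XZ (k + 2 * c)

theorem Tra.mem {c : ℤ} {w : G} (h : Tra S c w) {k l : ℤ} {x : G} (hx : x ∈ S.XZ k) (hl : l = k + 2 * c) :
    w * x * w⁻¹ ∈ S.XZ l := by
  rw [hl]; exact (h k x).1 hx

theorem Tra.inv {c : ℤ} {w : G} (h : Tra S c w) : Tra S (-c) w⁻¹ := by
  intro k x
  have h1 := h (k + 2 * -c) (w⁻¹ * x * w)
  have e1 : w * (w⁻¹ * x * w) * w⁻¹ = x := by group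
  rw [e1, show k + 2 * -c + 2 * c = k by ring] at h1
  rw [inv_inv]
  exact h1.symm

theorem Tra.mem_J {c : ℤ} {w : G} (h : Tra S c w) {a b a' b' : ℤ} {x : G} (hx : x ∈ J S.XZ a b) (ha : a' ≤ a + 2 * c)
    (hb : b + 2 * c ≤ b') : w * x * w⁻¹ ∈ J S.XZ a' b' := by
  have : J S.XZ a b ≤ (J S.XZ a' b').comap (MulAut.conj w).toMonoidHom :=
    J_le fun k h1 h2 y hy => ZS.mem_J (h.mem S hy rfl) (by omega) (by omega)
  exact this hx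

theorem Tra.congr {c c' : ℤ} {w : G} (h : Tra S c w) (hc : (8 : ℤ) ∣ c - c') : Tra S c' w := by
  intro k x
  rw [h k x, XZ_congr S (j := k + 2 * c) (k := k + 2 * c') (by omega)]

theorem refl_congr {c c' : ℤ} {w : G} (h : Refl S.XZ c w) (hc : (16 : ℤ) ∣ c - c') : Refl S.XZ c' w := by
  intro k x
  rw [h k x, XZ_congr S (j := c - k) (k := c' - k) (by omega)]

/-- torus elements times dihedral elements -/
theorem tra_or_refl {t w : G} (ht : t ∈ S.T) (hw : S.IsDihE w) : (∃ c, Tra S c (t * w)) ∨ ∃ c, Refl S.XZ (2 * c) (t * w) := by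
  obtain ⟨c, hc | hc⟩ := hw
  · left
    refine ⟨c, fun k x => ?_⟩
    have h1 := (Maps.mul (show Maps S.R.X t id from ht) hc) (k : ZMod (2 * 8)) x
    have e : S.XZ (k + 2 * c) = S.R.X ((id ∘ fun k => ((2 * c : ℤ) : ZMod (2 * 8)) + k) (k : ZMod (2 * 8))) := by
      show S.R.X _ = S.R.X (((2 * c : ℤ) : ZMod (2 * 8)) + (k : ZMod (2 * 8)))
      rw [add_comm k, Int.cast_add]
    rw [e]
    exact h1.symm
  · right
    refine ⟨c, fun k x => ?_⟩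
    have h1 := (Maps.mul (show Maps S.R.X t id from ht) hc) (k : ZMod (2 * 8)) x
    have e : S.XZ (2 * c - k) = S.R.X ((id ∘ fun k => ((2 * c : ℤ) : ZMod (2 * 8)) - k) (k : ZMod (2 * 8))) := by
      show S.R.X _ = S.R.X (((2 * c : ℤ) : ZMod (2 * 8)) - (k : ZMod (2 * 8)))
      rw [Int.cast_sub]
    rw [e]
    exact h1.symm

theorem IsZ.tra {c c0 : ℤ} {w x : G} (h : Tra S c0 w) (hx : IsZ S c x) : IsZ S (c + c0) (w * x * w⁻¹) :=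
  ⟨h.mem S hx.1 (by ring), sq_conj hx.2⟩

theorem IsZ.refl {c c0 : ℤ} {w x : G} (h : Refl S.XZ (2 * c0) w) (hx : IsZ S c x) : IsZ S (c0 - c) (w * x * w⁻¹) :=
  ⟨h.mem' hx.1 (by ring), sq_conj hx.2⟩

theorem IsW.tra {c c0 : ℤ} {w x : G} (h : Tra S c0 w) (hx : IsW S c x) : IsW S (c + c0) (w * x * w⁻¹) := by
  obtain ⟨y, z, hy, hz, rfl⟩ := hx
  have h2 := hz.tra S h
  rw [add_right_comm] at h2
  exact ⟨_, _, hy.tra S h, h2, by group⟩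

theorem IsW.refl {c c0 : ℤ} {w x : G} (h : Refl S.XZ (2 * c0) w) (hx : IsW S c x) :
    IsW S (c0 - c - 1) (w * x * w⁻¹) := by
  obtain ⟨y, z, hy, hz, rfl⟩ := hx
  have h1 := hy.refl S h
  have h2 := hz.refl S h
  rw [show c0 - (c + 1) = c0 - c - 1 by ring] at h2
  rw [show c0 - c = c0 - c - 1 + 1 by ring] at h1
  refine ⟨_, _, h2, h1, ?_⟩
  rw [Z_comm S h2 h1]
  group

/-! ### the last steps -/

/-- `e3` and the conjugate of `e3` by `q` -/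
theorem e3_conj {q : G} (hq : q ∈ J S.XZ 2 8) : (e3 S)⁻¹ * q * e3 S * q⁻¹ ∈ J S.XZ 2 8 := by
  have h1 : (e3 S)⁻¹ * q * (e3 S)⁻¹⁻¹ ∈ J S.XZ 2 8 :=
    S.zsys8.conj_J (a := 2) (b := 8) (c := 1) (d := 9) (by norm_num) (by norm_num) (by norm_num)
      (inv_mem (S.LO_le_J (e3_mem S))) hq
  rw [inv_inv] at h1
  exact mul_mem h1 (inv_mem hq)

section fin

variable [Finite F] [Finite G] (hF : ∃ c : Fˣ, c ≠ 1) (hR : S.R.p = 2)
include hF hR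

theorem comm_of_stab {q1 v q2 : G} (h1 : q1 ∈ J S.XZ 2 8) (h2 : q2 ∈ J S.XZ 2 8)
    (hLO : ∀ l ∈ S.LO, v * l * v⁻¹ ∈ S.LO) (hJ : ∀ x ∈ J S.XZ 2 8, v * x * v⁻¹ ∈ J S.XZ 2 8)
    (hc : e3 S * (q1 * v * q2) = (q1 * v * q2) * e3 S) : e3 S * v = v * e3 S ∧ q1 * (v * q2 * v⁻¹) ∈ S.NO ∧
      e3 S * (q1 * (v * q2 * v⁻¹)) = q1 * (v * q2 * v⁻¹) * e3 S := by
  have k1 : (e3 S)⁻¹ * (v * e3 S * v⁻¹) =
      ((e3 S)⁻¹ * q1⁻¹ * e3 S * q1⁻¹⁻¹) * (v * ((e3 S)⁻¹ * q2 * e3 S * q2⁻¹) * v⁻¹)⁻¹ := by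
    have k2 : v * (q2 * e3 S * q2⁻¹) * v⁻¹ = q1⁻¹ * e3 S * q1 := by
      have : v * (q2 * e3 S * q2⁻¹) * v⁻¹ = q1⁻¹ * ((q1 * v * q2) * e3 S) * (q2⁻¹ * v⁻¹) := by group
      rw [this, ← hc]; group
    have k3 : v * ((e3 S)⁻¹ * q2 * e3 S * q2⁻¹) * v⁻¹ = (v * (e3 S)⁻¹ * v⁻¹) * (v * (q2 * e3 S * q2⁻¹) * v⁻¹) := by group
    rw [k3, k2]; group
  have k4 : (e3 S)⁻¹ * (v * e3 S * v⁻¹) ∈ S.LO := mul_mem (inv_mem (e3_mem S)) (hLO _ (e3_mem S))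
  have k5 : (e3 S)⁻¹ * (v * e3 S * v⁻¹) ∈ J S.XZ 2 8 := by
    rw [k1]
    exact mul_mem (e3_conj S (inv_mem h1)) (inv_mem (hJ _ (e3_conj S h2)))
  have k6 := LO_inf28 S hF hR k4 k5
  have k7 : e3 S * v = v * e3 S := by
    rw [inv_mul_eq_one, eq_mul_inv_iff_mul_eq] at k6
    exact k6
  refine ⟨k7, ?_⟩
  have k8 : e3 S * (q1 * (v * q2 * v⁻¹)) = q1 * (v * q2 * v⁻¹) * e3 S := by
    have c1 : Commute (e3 S) v := k7
    have c2 : Commute (e3 S) (q1 * v * q2) := hc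
    have c3 : Commute (e3 S) (q1 * v * q2 * v⁻¹) := c2.mul_right c1.inv_right
    have e : q1 * (v * q2 * v⁻¹) = q1 * v * q2 * v⁻¹ := by group
    rw [e]; exact c3
  exact ⟨cent_NO S (mul_mem h1 (hJ _ h2)) k8, k8⟩

theorem comm_of_opp {q1 v q2 : G} (h1 : q1 ∈ J S.XZ 2 8) (h2 : q2 ∈ J S.XZ 2 8)
    (hLO : ∀ l ∈ S.LO, v * l * v⁻¹ ∈ S.LO) (hJ : ∀ x ∈ J S.XZ 2 8, v * x * v⁻¹ ∈ J S.XZ 10 16)
    (hc : e3 S * (q1 * v * q2) = (q1 * v * q2) * e3 S) : e3 S * q1 = q1 * e3 S ∧ e3 S * q2 = q2 * e3 S := by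
  have k1 : (e3 S)⁻¹ * (v * e3 S * v⁻¹) =
      ((e3 S)⁻¹ * q1⁻¹ * e3 S * q1⁻¹⁻¹) * (v * ((e3 S)⁻¹ * q2 * e3 S * q2⁻¹) * v⁻¹)⁻¹ := by
    have k2 : v * (q2 * e3 S * q2⁻¹) * v⁻¹ = q1⁻¹ * e3 S * q1 := by
      have : v * (q2 * e3 S * q2⁻¹) * v⁻¹ = q1⁻¹ * ((q1 * v * q2) * e3 S) * (q2⁻¹ * v⁻¹) := by group
      rw [this, ← hc]; group
    have k3 : v * ((e3 S)⁻¹ * q2 * e3 S * q2⁻¹) * v⁻¹ = (v * (e3 S)⁻¹ * v⁻¹) * (v * (q2 * e3 S * q2⁻¹) * v⁻¹) := by group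
    rw [k3, k2]; group
  have k4 : (e3 S)⁻¹ * (v * e3 S * v⁻¹) ∈ S.LO := mul_mem (inv_mem (e3_mem S)) (hLO _ (e3_mem S))
  set s1 := (e3 S)⁻¹ * q1⁻¹ * e3 S * q1⁻¹⁻¹ with hs1
  set s2 := v * ((e3 S)⁻¹ * q2 * e3 S * q2⁻¹) * v⁻¹ with hs2
  have m1 : s1 ∈ J S.XZ 2 8 := e3_conj S (inv_mem h1)
  have m2 : s2 ∈ J S.XZ 10 16 := hJ _ (e3_conj S h2)
  rw [k1] at k4
  -- a torus element centralizing `LO`
  obtain ⟨w, hw⟩ := hF
  obtain ⟨a, ha, a1, a2⟩ := TorEx.exists_tt S hw 1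
  have aLO : S.LO ≤ Subgroup.centralizer {a} := by
    refine sup_le (fun x hx => ?_) (fun x hx => ?_)
    · rw [mem_centralizer_singleton_iff]
      have := a1 1 (by norm_num) x hx
      exact (mul_inv_eq_iff_eq_mul.1 this).symm
    · rw [mem_centralizer_singleton_iff]
      have := a1 9 (by norm_num) x hx
      exact (mul_inv_eq_iff_eq_mul.1 this).symm
  have k5 := mem_centralizer_singleton_iff.1 (aLO k4)
  have k6 : (a * s1 * a⁻¹)⁻¹ * s1 = (a * s2 * a⁻¹)⁻¹ * s2 := by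
    have e1 : (a * s1 * a⁻¹)⁻¹ * s1 = a * s1⁻¹ * a⁻¹ * (s1 * s2⁻¹) * s2 := by group
    have e2 : s1 * s2⁻¹ = a * (s1 * s2⁻¹) * a⁻¹ := by rw [← k5, mul_inv_cancel_right]
    rw [e1, e2]; group
  have k7 : (a * s1 * a⁻¹)⁻¹ * s1 = 1 := by
    refine J28_inf S ⟨w, hw⟩ hR (mul_mem (inv_mem (S.T_conj_J ha m1)) m1) ?_
    rw [k6]
    exact mul_mem (inv_mem (S.T_conj_J ha m2)) m2
  have k8 : s1 = 1 := S.fix_J_one ha (by norm_num) (fun j h3 h4 x hx hf => a2 j (by omega) x hx hf) m1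
    (inv_mul_eq_one.1 k7)
  have k9 : s2 = 1 := S.fix_J_one ha (by norm_num) (fun j h3 h4 x hx hf => a2 j (by omega) x hx hf) m2
    (inv_mul_eq_one.1 (k6.symm.trans k7))
  constructor
  · rw [hs1, inv_inv] at k8
    have : q1⁻¹ * e3 S = e3 S * q1⁻¹ := by
      have e : q1⁻¹ * e3 S = e3 S * ((e3 S)⁻¹ * q1⁻¹ * e3 S * q1) * q1⁻¹ := by group
      rw [e, k8, mul_one]
    have c1 : Commute q1⁻¹ (e3 S) := this
    have c2 := c1.inv_left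
    rw [inv_inv] at c2
    exact c2.symm
  · rw [hs2] at k9
    have e0 : (e3 S)⁻¹ * q2 * e3 S * q2⁻¹ = 1 := by
      have e : (e3 S)⁻¹ * q2 * e3 S * q2⁻¹ = v⁻¹ * (v * ((e3 S)⁻¹ * q2 * e3 S * q2⁻¹) * v⁻¹) * v := by group
      rw [e, k9]; group
    have e : q2 * e3 S = e3 S * ((e3 S)⁻¹ * q2 * e3 S * q2⁻¹) * q2 := by group
    rw [e, e0, mul_one]

variable (hq : Nat.card F % 3 = 2)
include hq

omit hq in
/-- the Weyl group part, `X_5 → X_5` -/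
theorem case_stab {j q1 x1 w x2 q2 : G} (hj : e3 S * j = j * e3 S) (e : j = q1 * (x1 * w * x2) * q2)
    (h1 : q1 ∈ J S.XZ 2 8) (h2 : q2 ∈ J S.XZ 2 8) (hx1 : x1 ∈ S.XZ 1) (hx2 : x2 ∈ S.XZ 1)
    (hw1 : ∀ x ∈ S.XZ 1, w * x * w⁻¹ ∈ S.LO) (hw9 : ∀ x ∈ S.XZ 9, w * x * w⁻¹ ∈ S.LO)
    (hwJ : ∀ x ∈ J S.XZ 2 8, w * x * w⁻¹ ∈ J S.XZ 2 8) (hw5 : ∀ x ∈ S.XZ 5, w * x * w⁻¹ ∈ S.XZ 5) :
    ∀ y ∈ S.XZ 5, j * y * j⁻¹ ∈ S.XZ 5 := by
  have lx1 : x1 ∈ S.LO := Subgroup.mem_sup_left hx1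
  have lx2 : x2 ∈ S.LO := Subgroup.mem_sup_left hx2
  have wLO : ∀ l ∈ S.LO, w * l * w⁻¹ ∈ S.LO := by
    have : S.LO ≤ S.LO.comap (MulAut.conj w).toMonoidHom := sup_le (fun x hx => hw1 x hx) (fun x hx => hw9 x hx)
    exact fun l hl => this hl
  have vLO : ∀ l ∈ S.LO, (x1 * w * x2) * l * (x1 * w * x2)⁻¹ ∈ S.LO := by
    intro l hl
    have e1 : (x1 * w * x2) * l * (x1 * w * x2)⁻¹ = x1 * (w * (x2 * l * x2⁻¹) * w⁻¹) * x1⁻¹ := by group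
    rw [e1]
    exact mul_mem (mul_mem lx1 (wLO _ (mul_mem (mul_mem lx2 hl) (inv_mem lx2)))) (inv_mem lx1)
  have LOJ : ∀ l ∈ S.LO, ∀ x ∈ J S.XZ 2 8, l * x * l⁻¹ ∈ J S.XZ 2 8 := fun l hl x hx =>
    S.zsys8.conj_J (a := 2) (b := 8) (c := 1) (d := 9) (by norm_num) (by norm_num) (by norm_num) (S.LO_le_J hl) hx
  have vJ : ∀ x ∈ J S.XZ 2 8, (x1 * w * x2) * x * (x1 * w * x2)⁻¹ ∈ J S.XZ 2 8 := by
    intro x hx
    have e1 : (x1 * w * x2) * x * (x1 * w * x2)⁻¹ = x1 * (w * (x2 * x * x2⁻¹) * w⁻¹) * x1⁻¹ := by group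
    rw [e1]
    exact LOJ _ lx1 _ (hwJ _ (LOJ _ lx2 _ hx))
  rw [e] at hj
  obtain ⟨c1, c2, c3⟩ := comm_of_stab S hF hR h1 h2 vLO vJ hj
  intro y hy
  have five : ∀ l ∈ S.LO, ∀ y ∈ S.XZ 5, l * y * l⁻¹ = y := by
    intro l hl y hy
    have := mem_centralizer_iff.1 (S.LO_le_cent hl) y hy
    rw [← this, mul_inv_cancel_right]
  have h5 : (x1 * w * x2) * y * (x1 * w * x2)⁻¹ ∈ S.XZ 5 := by
    have e1 : (x1 * w * x2) * y * (x1 * w * x2)⁻¹ = x1 * (w * (x2 * y * x2⁻¹) * w⁻¹) * x1⁻¹ := by group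
    rw [e1, five _ lx2 y hy, five _ lx1 _ (hw5 y hy)]
    exact hw5 y hy
  have e2 : j * y * j⁻¹ = (q1 * ((x1 * w * x2) * q2 * (x1 * w * x2)⁻¹)) * ((x1 * w * x2) * y * (x1 * w * x2)⁻¹) *
      (q1 * ((x1 * w * x2) * q2 * (x1 * w * x2)⁻¹))⁻¹ := by
    rw [e]; group
  rw [e2]
  have h6 := mem_centralizer_iff.1 c2.2 _ h5
  rw [← h6, mul_inv_cancel_right]
  exact h5

omit hq in
/-- the Weyl group part, `X_5 → X_13` -/
theorem case_opp {j q1 x1 w x2 q2 : G} (hj : e3 S * j = j * e3 S) (e : j = q1 * (x1 * w * x2) * q2)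
    (h1 : q1 ∈ J S.XZ 2 8) (h2 : q2 ∈ J S.XZ 2 8) (hx1 : x1 ∈ S.XZ 1) (hx2 : x2 ∈ S.XZ 1)
    (hw1 : ∀ x ∈ S.XZ 1, w * x * w⁻¹ ∈ S.LO) (hw9 : ∀ x ∈ S.XZ 9, w * x * w⁻¹ ∈ S.LO)
    (hwJ : ∀ x ∈ J S.XZ 2 8, w * x * w⁻¹ ∈ J S.XZ 10 16) (hw5 : ∀ x, x ∈ S.XZ 5 ↔ w * x * w⁻¹ ∈ S.XZ 13) :
    ∃ u ∈ S.NO, e3 S * u = u * e3 S ∧ ∀ y, y ∈ S.XZ 5 ↔ (u⁻¹ * j) * y * (u⁻¹ * j)⁻¹ ∈ S.XZ 13 := by
  have lx1 : x1 ∈ S.LO := Subgroup.mem_sup_left hx1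
  have lx2 : x2 ∈ S.LO := Subgroup.mem_sup_left hx2
  have wLO : ∀ l ∈ S.LO, w * l * w⁻¹ ∈ S.LO := by
    have : S.LO ≤ S.LO.comap (MulAut.conj w).toMonoidHom := sup_le (fun x hx => hw1 x hx) (fun x hx => hw9 x hx)
    exact fun l hl => this hl
  have vLO : ∀ l ∈ S.LO, (x1 * w * x2) * l * (x1 * w * x2)⁻¹ ∈ S.LO := by
    intro l hl
    have e1 : (x1 * w * x2) * l * (x1 * w * x2)⁻¹ = x1 * (w * (x2 * l * x2⁻¹) * w⁻¹) * x1⁻¹ := by group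
    rw [e1]
    exact mul_mem (mul_mem lx1 (wLO _ (mul_mem (mul_mem lx2 hl) (inv_mem lx2)))) (inv_mem lx1)
  have LOJ : ∀ l ∈ S.LO, ∀ x ∈ J S.XZ 2 8, l * x * l⁻¹ ∈ J S.XZ 2 8 := fun l hl x hx =>
    S.zsys8.conj_J (a := 2) (b := 8) (c := 1) (d := 9) (by norm_num) (by norm_num) (by norm_num) (S.LO_le_J hl) hx
  have LOle : S.LO ≤ J S.XZ 9 17 := by
    refine sup_le ?_ (X_le_J (by norm_num) (by norm_num))
    rw [XZ_congr S (j := 1) (k := 17) (by norm_num)]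
    exact X_le_J (by norm_num) (by norm_num)
  have LOJ' : ∀ l ∈ S.LO, ∀ x ∈ J S.XZ 10 16, l * x * l⁻¹ ∈ J S.XZ 10 16 := fun l hl x hx =>
    S.zsys8.conj_J (a := 10) (b := 16) (c := 9) (d := 17) (by norm_num) (by norm_num) (by norm_num) (LOle hl) hx
  have vJ : ∀ x ∈ J S.XZ 2 8, (x1 * w * x2) * x * (x1 * w * x2)⁻¹ ∈ J S.XZ 10 16 := by
    intro x hx
    have e1 : (x1 * w * x2) * x * (x1 * w * x2)⁻¹ = x1 * (w * (x2 * x * x2⁻¹) * w⁻¹) * x1⁻¹ := by group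
    rw [e1]
    exact LOJ' _ lx1 _ (hwJ _ (LOJ _ lx2 _ hx))
  rw [e] at hj
  obtain ⟨c1, c2⟩ := comm_of_opp S hF hR h1 h2 vLO vJ hj
  refine ⟨q1, cent_NO S h1 c1, c1, fun y => ?_⟩
  have e2 : q1⁻¹ * j = x1 * w * x2 * q2 := by rw [e]; group
  rw [e2]
  have hq2 := (cent_NO S h2 c2).2
  have five : ∀ l ∈ S.LO, ∀ y, y ∈ S.XZ 5 ↔ l * y * l⁻¹ ∈ S.XZ 5 := by
    have key : ∀ l ∈ S.LO, ∀ y ∈ S.XZ 5, l * y * l⁻¹ = y := by
      intro l hl y hy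
      have := mem_centralizer_iff.1 (S.LO_le_cent hl) y hy
      rw [← this, mul_inv_cancel_right]
    intro l hl y
    constructor
    · intro hy; rw [key l hl y hy]; exact hy
    · intro hy
      have h3 := key l⁻¹ (inv_mem hl) _ hy
      have e3 : l⁻¹ * (l * y * l⁻¹) * l⁻¹⁻¹ = y := by group
      rw [e3] at h3
      rw [h3]; exact hy
  have thirteen : ∀ l ∈ S.LO, ∀ y, y ∈ S.XZ 13 ↔ l * y * l⁻¹ ∈ S.XZ 13 := by
    have key : ∀ l ∈ S.LO, ∀ y ∈ S.XZ 13, l * y * l⁻¹ = y := by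
      intro l hl y hy
      have hl' : l ∈ S.XZ 1 ⊔ S.XZ (1 + 8) := hl
      have hy' : y ∈ S.XZ (1 + 4) ⊔ S.XZ (1 + 4 + 8) := Subgroup.mem_sup_right hy
      rw [H42.Tw.comm_LM S (j := 1) hl' hy', mul_inv_cancel_right]
    intro l hl y
    constructor
    · intro hy; rw [key l hl y hy]; exact hy
    · intro hy
      have h3 := key l⁻¹ (inv_mem hl) _ hy
      have e3 : l⁻¹ * (l * y * l⁻¹) * l⁻¹⁻¹ = y := by group
      rw [e3] at h3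
      rw [h3]; exact hy
  have q2five : ∀ y, y ∈ S.XZ 5 ↔ q2 * y * q2⁻¹ ∈ S.XZ 5 := by
    intro y
    constructor
    · intro hy
      have := mem_centralizer_iff.1 hq2 y hy
      rw [← this, mul_inv_cancel_right]; exact hy
    · intro hy
      have := mem_centralizer_iff.1 hq2 _ hy
      have e4 : y = q2⁻¹ * (q2 * y * q2⁻¹ * q2) := by group
      rw [this] at e4
      rw [e4, inv_mul_cancel_left]
      exact hy
  have e5 : x1 * w * x2 * q2 * y * (x1 * w * x2 * q2)⁻¹ = x1 * (w * (x2 * (q2 * y * q2⁻¹) * x2⁻¹) * w⁻¹) * x1⁻¹ := by group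
  rw [e5, ← thirteen _ lx1, ← hw5, ← five _ lx2, ← q2five]

/-- **conjugates of `X_5` under `C(e3)`** -/
theorem conj_five {j : G} (hj : e3 S * j = j * e3 S) : (∀ y ∈ S.XZ 5, j * y * j⁻¹ ∈ S.XZ 5) ∨
    ∃ u ∈ S.NO, e3 S * u = u * e3 S ∧ ∀ y, y ∈ S.XZ 5 ↔ (u⁻¹ * j) * y * (u⁻¹ * j)⁻¹ ∈ S.XZ 13 := by
  have Z8 := S.zsys8
  obtain ⟨b, hb, t, ht, w, hw, b', hb', e⟩ := S.bruhatE j
  have hb9 : b ∈ J S.XZ 1 9 := J_mono le_rfl (by norm_num) hb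
  have hb9' : b' ∈ J S.XZ 1 9 := J_mono le_rfl (by norm_num) hb'
  have he9 : e3 S ∈ J S.XZ 1 9 := S.LO_le_J (e3_mem S)
  set v := t * w with hv
  -- the element of order 3
  set f := b⁻¹ * e3 S * b with hf
  have hf1 : f ∈ J S.XZ 1 9 := mul_mem (mul_mem (inv_mem hb9) he9) hb9
  have hfe : f = v * (b' * e3 S * b'⁻¹) * v⁻¹ := by
    have h1 : e3 S * (b * v * b') = (b * v * b') * e3 S := by
      have e0 : b * v * b' = j := by rw [e, hv]; group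
      rw [e0, hj]
    calc f = b⁻¹ * (e3 S * (b * v * b')) * (v * b')⁻¹ := by rw [hf]; group
      _ = _ := by rw [h1]; group
  have hf3 : f * f * f = 1 := by
    have e1 : f * f * f = b⁻¹ * (e3 S * e3 S * e3 S) * b := by rw [hf]; group
    rw [e1, e3_cube]; group
  have hfp : ∀ y, IsW S 2 y → f * y = y * f → y = 1 := by
    intro y hy h
    have h1 : b * y * b⁻¹ ∈ S.W46 := S.W46_conj hb9 ((isW_two S).1 hy)
    have h2 := fixW S h1 (by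
      have e1 : e3 S = b * f * b⁻¹ := by rw [hf]; group
      rw [e1]
      calc b * f * b⁻¹ * (b * y * b⁻¹) = b * (f * y) * b⁻¹ := by group
        _ = _ := by rw [h]; group)
    have e2 : y = b⁻¹ * (b * y * b⁻¹) * b := by group
    rw [e2, h2]; group
  -- transport of fixed points by `v`
  have hfp' : ∀ y, IsW S 2 (v⁻¹ * y * v) → f * y = y * f → y = 1 := by
    intro y hy h
    have h1 : b'⁻¹ * (v⁻¹ * y * v) * b'⁻¹⁻¹ ∈ S.W46 := S.W46_conj (inv_mem hb9') ((isW_two S).1 hy)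
    have h2 := fixW S h1 (by
      have e1 : e3 S = (v * b')⁻¹ * f * (v * b') := by rw [hfe]; group
      rw [e1]
      calc (v * b')⁻¹ * f * (v * b') * (b'⁻¹ * (v⁻¹ * y * v) * b'⁻¹⁻¹) = (v * b')⁻¹ * (f * y) * (v * b') := by group
        _ = _ := by rw [h]; group)
    have e2 : y = v * b' * (b'⁻¹ * (v⁻¹ * y * v) * b'⁻¹⁻¹) * (v * b')⁻¹ := by group
    rw [e2, h2]; group
  have hfc : b' * e3 S * b'⁻¹ ∈ J S.XZ 1 9 := mul_mem (mul_mem hb9' he9) (inv_mem hb9')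
  obtain ⟨q1, hq1, x1, hx1, eb⟩ := Z8.split_lr (a := 1) (b := 8) (by norm_num) (by norm_num) hb
  obtain ⟨x2, hx2, q2, hq2, eb'⟩ := Z8.split_ll (a := 1) (b := 8) (by norm_num) (by norm_num) hb'
  rw [show (1 : ℤ) + 1 = 2 by norm_num] at hq1 hq2
  have ej : j = q1 * (x1 * v * x2) * q2 := by rw [e, eb, eb', hv]; group
  rcases tra_or_refl S ht hw with ⟨c0, h0⟩ | ⟨c0, h0⟩
  · -- translations
    obtain ⟨c, hc1, hc2, hc3⟩ : ∃ c : ℤ, -1 ≤ c ∧ c < 7 ∧ (8 : ℤ) ∣ c0 - (c - 2) :=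
      ⟨-1 + (c0 + 3) % 8, by omega, by omega, by omega⟩
    have h := h0.congr S hc3
    have hf' : f ∈ J S.XZ (2 * c - 3) (2 * c + 5) := by
      rw [hfe]; exact h.mem_J S hfc (by omega) (by omega)
    have hfp2 : ∀ y, IsW S c y → f * y = y * f → y = 1 := by
      intro y hy hfy
      refine hfp' y ?_ hfy
      have h1 := hy.tra S (h.inv S)
      rw [inv_inv, show c + -(c - 2) = 2 by ring] at h1
      exact h1
    have hc4 : c = 2 ∨ c = 6 := by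
      by_contra hcon
      exact no_three S hF hR hq (c := c) (by omega) hf3 hf1 hfp hf' hfp2
    rcases hc4 with rfl | rfl
    · left
      exact case_stab S hF hR hj ej hq1 hq2 hx1 hx2 (fun x hx => Subgroup.mem_sup_left (h.mem S hx (by norm_num)))
        (fun x hx => Subgroup.mem_sup_right (h.mem S hx (by norm_num)))
        (fun x hx => h.mem_J S hx (by norm_num) (by norm_num)) (fun x hx => h.mem S hx (by norm_num))
    · right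
      refine case_opp S hF hR hj ej hq1 hq2 hx1 hx2 (fun x hx => Subgroup.mem_sup_right (h.mem S hx (by norm_num)))
        (fun x hx => Subgroup.mem_sup_left ?_)
        (fun x hx => h.mem_J S hx (by norm_num) (by norm_num)) (fun x => h 5 x)
      rw [XZ_congr S (j := 1) (k := 17) (by norm_num)]
      exact h.mem S hx (by norm_num)
  · -- reflections
    obtain ⟨c, hc1, hc2, hc3⟩ : ∃ c : ℤ, -1 ≤ c ∧ c < 7 ∧ (16 : ℤ) ∣ 2 * c0 - 2 * (c + 3) :=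
      ⟨-1 + (c0 - 2) % 8, by omega, by omega, by omega⟩
    have h := refl_congr S h0 hc3
    have hf' : f ∈ J S.XZ (2 * c - 3) (2 * c + 5) := by
      rw [hfe]; exact h.mem_J hfc (by omega) (by omega)
    have hfp2 : ∀ y, IsW S c y → f * y = y * f → y = 1 := by
      intro y hy hfy
      refine hfp' y ?_ hfy
      have h1 := hy.refl S h.inv
      rw [inv_inv, show c + 3 - c - 1 = 2 by ring] at h1
      exact h1
    have hc4 : c = 2 ∨ c = 6 := by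
      by_contra hcon
      exact no_three S hF hR hq (c := c) (by omega) hf3 hf1 hfp hf' hfp2
    rcases hc4 with rfl | rfl
    · left
      exact case_stab S hF hR hj ej hq1 hq2 hx1 hx2 (fun x hx => Subgroup.mem_sup_right (h.mem' hx (by norm_num)))
        (fun x hx => Subgroup.mem_sup_left (h.mem' hx (by norm_num)))
        (fun x hx => h.mem_J hx (by norm_num) (by norm_num)) (fun x hx => h.mem' hx (by norm_num))
    · right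
      refine case_opp S hF hR hj ej hq1 hq2 hx1 hx2 (fun x hx => Subgroup.mem_sup_left ?_)
        (fun x hx => Subgroup.mem_sup_right (h.mem' hx (by norm_num)))
        (fun x hx => h.mem_J hx (by norm_num) (by norm_num)) (fun x => h 5 x)
      rw [XZ_congr S (j := 1) (k := 17) (by norm_num)]
      exact h.mem' hx (by norm_num)

end fin

end Cfsg.Agent.H772.TF
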