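import Cfsg.Agent.H772.TF.ActE
import Cfsg.Agent.H818.StrP.Gen
import Cfsg.Agent.H191.CoprimeEigen

/-!
# `²F₄(q)` has no strongly `p`-embedded subgroup for `p ∣ q + 1` (S2120, task 708): the main argument

`false_of` : a strongly `p`-embedded subgroup containing an element `e1` of order `p` of `⟨X_1, X_9⟩` commuting with
`e3`, and an element `w` of order 3 acting non-trivially on `⟨e3, e3b⟩`: contradiction.
-/

set_option autoImplicit false
set_option linter.unusedSectionVars false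

namespace Cfsg.Agent.H772.TF

open Cfsg.Agent.SplitTwo Cfsg.Agent.SplitTwo.ZS Cfsg.Agent.TitsThree.RankTwoZ
open Cfsg.Agent.KFacts.TwF4 Cfsg.Agent.KFacts.TwF4.Arc
open Subgroup

universe u

variable {F : Type*} [Field F] {σ : F →+* F} {G : Type u} [Group G] (S : Full σ G)

/-! ### `C(e3) ⊓ X_3 X_5 X_7 = X_5` -/

/-- `X_3 X_5 X_7` -/
def O357 : Subgroup G where
  carrier := {x | ∃ b f i, S.o 1 b * S.o 2 f * S.o 3 i = x}
  one_mem' := ⟨0, 0, 0, by rw [S.o_zero, S.o_zero, S.o_zero, mul_one, mul_one]⟩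
  mul_mem' := by
    rintro _ _ ⟨b, f, i, rfl⟩ ⟨b', f', i', rfl⟩
    refine ⟨b + b', f + f', i + i', ?_⟩
    have c12 : ∀ t s, S.o 1 t * S.o 2 s = S.o 2 s * S.o 1 t := fun t s => S.o_o1 1 t s
    have c23 : ∀ t s, S.o 2 t * S.o 3 s = S.o 3 s * S.o 2 t := fun t s => S.o_o1 2 t s
    have c13 : ∀ t s, S.o 1 t * S.o 3 s = S.o 3 s * S.o 1 t := fun t s => S.o_o2 1 t s
    rw [← S.o_add, ← S.o_add, ← S.o_add]
    calc S.o 1 b * S.o 1 b' * (S.o 2 f * S.o 2 f') * (S.o 3 i * S.o 3 i') =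
        S.o 1 b * (S.o 1 b' * S.o 2 f) * (S.o 2 f' * S.o 3 i) * S.o 3 i' := by group
      _ = S.o 1 b * S.o 2 f * (S.o 1 b' * S.o 3 i) * S.o 2 f' * S.o 3 i' := by rw [c12, c23]; group
      _ = _ := by rw [c13]; group
  inv_mem' := by
    rintro _ ⟨b, f, i, rfl⟩
    have c12 : ∀ t s, S.o 1 t * S.o 2 s = S.o 2 s * S.o 1 t := fun t s => S.o_o1 1 t s
    have c23 : ∀ t s, S.o 2 t * S.o 3 s = S.o 3 s * S.o 2 t := fun t s => S.o_o1 2 t s
    have c13 : ∀ t s, S.o 1 t * S.o 3 s = S.o 3 s * S.o 1 t := fun t s => S.o_o2 1 t s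
    refine ⟨b, f, i, ?_⟩
    rw [mul_inv_rev, mul_inv_rev, o_inv S, o_inv S, o_inv S, c12, mul_assoc, c13, ← mul_assoc, c23]
    rw [mul_assoc]

theorem mem_O357_of {x : G} (hx : x ∈ S.XZ 3 ⊔ S.XZ 5 ⊔ S.XZ 7) : x ∈ O357 S := by
  have : S.XZ 3 ⊔ S.XZ 5 ⊔ S.XZ 7 ≤ O357 S := by
    refine sup_le (sup_le (fun y hy => ?_) (fun y hy => ?_)) (fun y hy => ?_)
    · obtain ⟨t, rfl⟩ := (mem_X3 S).1 hy
      exact ⟨t, 0, 0, by rw [S.o_zero, S.o_zero, mul_one, mul_one]⟩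
    · obtain ⟨t, rfl⟩ := (mem_X5 S).1 hy
      exact ⟨0, t, 0, by rw [S.o_zero, S.o_zero, mul_one, one_mul]⟩
    · obtain ⟨t, rfl⟩ := (mem_X7 S).1 hy
      exact ⟨0, 0, t, by rw [S.o_zero, S.o_zero, mul_one, one_mul]⟩
  exact this hx

theorem O357_uniq {b f i b' f' i' : F} (h : S.o 1 b * S.o 2 f * S.o 3 i = S.o 1 b' * S.o 2 f' * S.o 3 i') :
    b = b' ∧ f = f' ∧ i = i' := by
  have Z8 := S.zsys8
  have h1 : (S.o 1 b')⁻¹ * S.o 1 b = S.o 2 f' * S.o 3 i' * (S.o 3 i)⁻¹ * (S.o 2 f)⁻¹ := by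
    calc (S.o 1 b')⁻¹ * S.o 1 b = (S.o 1 b')⁻¹ * (S.o 1 b * S.o 2 f * S.o 3 i) * (S.o 3 i)⁻¹ * (S.o 2 f)⁻¹ := by group
      _ = _ := by rw [h]; group
  have h2 : (S.o 1 b')⁻¹ * S.o 1 b = 1 := by
    refine Z8.inter 3 _ (mul_mem (inv_mem (S.mX3 _)) (S.mX3 _)) ?_
    rw [h1]
    have m5 : ∀ t, S.o 2 t ∈ J S.XZ (3 + 1) (3 + 8 - 1) := fun t => mem_J (S.mX5 t) (by norm_num) (by norm_num)
    have m7 : ∀ t, S.o 3 t ∈ J S.XZ (3 + 1) (3 + 8 - 1) := fun t => mem_J (S.mX7 t) (by norm_num) (by norm_num)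
    exact mul_mem (mul_mem (mul_mem (m5 _) (m7 _)) (inv_mem (m7 _))) (inv_mem (m5 _))
  have hb : b = b' := (S.injO 1 (inv_mul_eq_one.1 h2)).symm
  rw [hb, mul_assoc, mul_assoc] at h
  have h3 := mul_left_cancel h
  have h4 : (S.o 2 f')⁻¹ * S.o 2 f = S.o 3 i' * (S.o 3 i)⁻¹ := by
    rw [inv_mul_eq_iff_eq_mul, ← mul_assoc, eq_mul_inv_iff_mul_eq]; exact h3
  have h5 : (S.o 2 f')⁻¹ * S.o 2 f = 1 :=
    S.X_inf_near (i := 5) (j := 7) (by norm_num) (by norm_num) (mul_mem (inv_mem (S.mX5 _)) (S.mX5 _))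
      (by rw [h4]; exact mul_mem (S.mX7 _) (inv_mem (S.mX7 _)))
  rw [h5] at h4
  exact ⟨hb, (S.injO 2 (inv_mul_eq_one.1 h5)).symm, (S.injO 3 (mul_inv_eq_one.1 h4.symm)).symm⟩

theorem e3_O357 (b f i : F) : e3 S * (S.o 1 b * S.o 2 f * S.o 3 i) = S.o 1 i * S.o 2 (f + σ i) * S.o 3 (b + i) * e3 S := by
  have c12 : ∀ t s, S.o 1 t * S.o 2 s = S.o 2 s * S.o 1 t := fun t s => S.o_o1 1 t s
  have c23 : ∀ t s, S.o 2 t * S.o 3 s = S.o 3 s * S.o 2 t := fun t s => S.o_o1 2 t s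
  have c13 : ∀ t s, S.o 1 t * S.o 3 s = S.o 3 s * S.o 1 t := fun t s => S.o_o2 1 t s
  have c01 : ∀ s, S.o 0 1 * S.o 1 s = S.o 1 s * S.o 0 1 := fun s => S.o_o1 0 1 s
  have c02 : ∀ s, S.o 0 1 * S.o 2 s = S.o 2 s * S.o 0 1 := fun s => S.o_o2 0 1 s
  have c03 : S.o 0 1 * S.o 3 i = S.o 3 i * S.o 0 1 * S.o 1 i * S.o 2 (σ i) := by
    have := S.o_o3 0 1 i
    rw [map_one, one_mul, one_mul] at this
    exact this
  have n1' : ∀ s, S.n1 * S.o 1 s = S.o 3 s * S.n1 := fun s => by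
    have := S.n1_o 1 s
    rw [mul_inv_eq_iff_eq_mul] at this
    exact this
  have n2' : ∀ s, S.n1 * S.o 2 s = S.o 2 s * S.n1 := fun s => by
    have := S.n1_o 2 s
    rw [mul_inv_eq_iff_eq_mul] at this
    exact this
  have n3' : ∀ s, S.n1 * S.o 3 s = S.o 1 s * S.n1 := fun s => by
    have := S.n1_o 3 s
    rw [mul_inv_eq_iff_eq_mul] at this
    exact this
  have k1 : S.o 0 1 * (S.o 1 b * S.o 2 f * S.o 3 i) = S.o 1 (b + i) * S.o 2 (f + σ i) * S.o 3 i * S.o 0 1 := by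
    calc S.o 0 1 * (S.o 1 b * S.o 2 f * S.o 3 i) = S.o 0 1 * S.o 1 b * S.o 2 f * S.o 3 i := by group
      _ = S.o 1 b * (S.o 0 1 * S.o 2 f) * S.o 3 i := by rw [c01]; group
      _ = S.o 1 b * S.o 2 f * (S.o 0 1 * S.o 3 i) := by rw [c02]; group
      _ = S.o 1 b * S.o 2 f * S.o 3 i * (S.o 0 1 * S.o 1 i) * S.o 2 (σ i) := by rw [c03]; group
      _ = S.o 1 b * S.o 2 f * S.o 3 i * S.o 1 i * (S.o 0 1 * S.o 2 (σ i)) := by rw [c01]; group
      _ = S.o 1 b * S.o 2 f * (S.o 3 i * S.o 1 i) * S.o 2 (σ i) * S.o 0 1 := by rw [c02]; group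
      _ = S.o 1 b * (S.o 2 f * S.o 1 i) * (S.o 3 i * S.o 2 (σ i)) * S.o 0 1 := by rw [← c13]; group
      _ = (S.o 1 b * S.o 1 i) * (S.o 2 f * S.o 2 (σ i)) * S.o 3 i * S.o 0 1 := by rw [← c12, ← c23]; group
      _ = _ := by rw [S.o_add, S.o_add]
  rw [e3_eq, mul_assoc, k1]
  calc S.n1 * (S.o 1 (b + i) * S.o 2 (f + σ i) * S.o 3 i * S.o 0 1) =
      (S.n1 * S.o 1 (b + i)) * S.o 2 (f + σ i) * S.o 3 i * S.o 0 1 := by group
    _ = S.o 3 (b + i) * (S.n1 * S.o 2 (f + σ i)) * S.o 3 i * S.o 0 1 := by rw [n1']; group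
    _ = S.o 3 (b + i) * S.o 2 (f + σ i) * (S.n1 * S.o 3 i) * S.o 0 1 := by rw [n2']; group
    _ = (S.o 3 (b + i) * S.o 2 (f + σ i)) * S.o 1 i * S.n1 * S.o 0 1 := by rw [n3']; group
    _ = S.o 2 (f + σ i) * (S.o 3 (b + i) * S.o 1 i) * S.n1 * S.o 0 1 := by rw [← c23]; group
    _ = (S.o 2 (f + σ i) * S.o 1 i) * S.o 3 (b + i) * S.n1 * S.o 0 1 := by rw [← c13]; group
    _ = _ := by rw [← c12]; group

theorem odd_cent {x : G} (hx : x ∈ O357 S) (h : e3 S * x = x * e3 S) : x ∈ S.XZ 5 := by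
  obtain ⟨b, f, i, rfl⟩ := hx
  rw [e3_O357] at h
  obtain ⟨h1, h2, h3⟩ := O357_uniq S (mul_right_cancel h)
  have hb : b = 0 := by
    have h4 : b + i = 0 + i := by rw [h3, zero_add]
    exact add_right_cancel h4
  have hi : i = 0 := by rw [h1, hb]
  rw [hb, hi, S.o_zero, S.o_zero, one_mul, mul_one]
  exact S.mX5 f

/-! ### the strongly `p`-embedded subgroup -/

section main

variable [Finite F] [Finite G] {p : ℕ} [hp : Fact p.Prime] {H : Subgroup G}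

open Cfsg Cfsg.Agent.H818.StrP

theorem mem_of_conj_mem (hH : IsStronglyPEmbedded p H) {x g : G} (hx : x ∈ H) (ho : orderOf x = p)
    (hg : g * x * g⁻¹ ∈ H) : g ∈ H := by
  by_contra hcon
  apply EvenType.StrongP.inter hH hcon
  have h1 : g * x * g⁻¹ ∈ H ⊓ H.map (MulAut.conj g).toMonoidHom := ⟨hg, x, hx, rfl⟩
  have h2 : orderOf (⟨g * x * g⁻¹, h1⟩ : ↥(H ⊓ H.map (MulAut.conj g).toMonoidHom)) = p := by
    rw [← Subgroup.orderOf_coe]
    show orderOf (g * x * g⁻¹) = p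
    rw [show g * x * g⁻¹ = MulAut.conj g x from rfl, MulEquiv.orderOf_eq, ho]
  rw [← h2]
  exact orderOf_dvd_natCard _

variable (hH : IsStronglyPEmbedded p H) {e1 : G} (he1 : e1 ∈ S.LO) (ho : orderOf e1 = p) (h1H : e1 ∈ H)
include hH he1 ho h1H

theorem M5_le : M5 S ≤ H := fun x hx => centralizer_le hH h1H ho
  (mem_centralizer_singleton_iff.2 (comm_M5 S he1 hx).symm)

theorem e5_mem : S.ck 2 e1 ∈ H := M5_le S hH he1 ho h1H (ck_LO S he1)

omit hH he1 h1H [Finite F] [Finite G] hp in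
theorem e5_order : orderOf (S.ck 2 e1) = p := by rw [MulEquiv.orderOf_eq, ho]

theorem LO_le : S.LO ≤ H := fun x hx => centralizer_le hH (e5_mem S hH he1 ho h1H) (e5_order S ho)
  (mem_centralizer_singleton_iff.2 (comm_M5 S hx (ck_LO S he1)))

theorem T_le : S.T ≤ H :=
  T_le_odd S (le_sup_left.trans (LO_le S hH he1 ho h1H)) (le_sup_right.trans (LO_le S hH he1 ho h1H))
    (le_sup_left.trans (M5_le S hH he1 ho h1H)) (le_sup_right.trans (M5_le S hH he1 ho h1H))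

theorem rot_mem : S.rot ^ (2 : ℤ) ∈ H := mem_of_conj_mem hH h1H ho (e5_mem S hH he1 ho h1H)

variable (hc : e3 S * e1 = e1 * e3 S)
include hc

/-- Frattini -/
theorem frattini {w : G} (hw3 : w * w * w = 1) {m : ZMod 3 × ZMod 3 × ZMod 3 × ZMod 3} (hw : Act S w m) :
    ∃ h ∈ H, Act S h m := by
  set C : Subgroup G := centralizer ({e3 S, e3b S} : Set G) with hC
  have memC : ∀ x, x ∈ C ↔ (e3 S * x = x * e3 S ∧ e3b S * x = x * e3b S) := by
    intro x
    rw [hC, mem_centralizer_iff]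
    simp only [Set.mem_insert_iff, Set.mem_singleton_iff, forall_eq_or_imp, forall_eq]
  have hCE : ∀ x ∈ C, ∀ i j, Commute x (E S i j) := by
    intro x hx i j
    obtain ⟨h1, h2⟩ := (memC x).1 hx
    have c1 : Commute x (e3 S) := h1.symm
    have c2 : Commute x (e3b S) := h2.symm
    exact (c1.pow_right _).mul_right (c2.pow_right _)
  have he1C : e1 ∈ C := (memC e1).2 ⟨hc, (comm_M5 S he1 (e3b_mem S)).symm⟩
  -- `w` normalizes `C`
  have hwi : Act S (w * w) (mm m m) := hw.mul S hw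
  have hww : w * w = w⁻¹ := (inv_eq_of_mul_eq_one_left hw3).symm
  rw [hww] at hwi
  have hwC : ∀ x ∈ C, w * x * w⁻¹ ∈ C := by
    intro x hx
    have h1 := hCE x hx (mm m m).1 (mm m m).2.1
    have h2 := hCE x hx (mm m m).2.2.1 (mm m m).2.2.2
    rw [← hwi.1, inv_inv] at h1
    rw [← hwi.2, inv_inv] at h2
    refine (memC _).2 ⟨?_, ?_⟩
    · calc e3 S * (w * x * w⁻¹) = w * (w⁻¹ * e3 S * w * x) * w⁻¹ := by group
        _ = _ := by rw [← h1.eq]; group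
    · calc e3b S * (w * x * w⁻¹) = w * (w⁻¹ * e3b S * w * x) * w⁻¹ := by group
        _ = _ := by rw [← h2.eq]; group
  -- a Sylow `p`-subgroup of `C` containing `e1`
  have hz : IsPGroup p (zpowers (⟨e1, he1C⟩ : C)) := by
    apply H240.StrongP.zpowers_isPGroup
    rw [← Subgroup.orderOf_coe]
    exact ho
  obtain ⟨P, hP⟩ := hz.exists_le_sylow
  have he1P : (⟨e1, he1C⟩ : C) ∈ P := hP (mem_zpowers _)
  set PG : Subgroup G := (P : Subgroup C).map C.subtype with hPG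
  have hPGp : IsPGroup p PG := P.isPGroup'.map _
  have he1G : e1 ∈ PG := ⟨⟨e1, he1C⟩, he1P, rfl⟩
  have hPG1 : PG ≠ ⊥ := by
    intro h
    rw [h, Subgroup.mem_bot] at he1G
    rw [he1G, orderOf_one] at ho
    exact hp.out.one_lt.ne ho
  have hPGH : PG ≤ H := by
    obtain ⟨z, hzP, hzo, hzc⟩ := H240.StrongP.exists_central_order_p hPGp hPG1
    have hzH : z ∈ H := centralizer_le hH h1H ho (mem_centralizer_singleton_iff.2 (hzc e1 he1G).symm)
    intro x hx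
    exact centralizer_le hH hzH hzo (mem_centralizer_singleton_iff.2 (hzc x hx))
  obtain ⟨c, hc'⟩ := H191.CoprimeEigen.exists_normalizing C P w hwC
  refine ⟨c * w, ?_, ?_⟩
  · refine normalizer_le hH hPGH hPGp hPG1 ?_
    have h1 : PG ≤ PG.comap (MulAut.conj ((c : G) * w)).toMonoidHom := by
      rintro _ ⟨x, hx, rfl⟩
      obtain ⟨y, hy, hyx⟩ := hc' x hx
      exact ⟨y, hy, hyx⟩
    have h2 : PG.map (MulAut.conj ((c : G) * w)).toMonoidHom = PG := by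
      apply Subgroup.eq_of_le_of_card_ge
      · rw [Subgroup.map_le_iff_le_comap]; exact h1
      · exact (Subgroup.card_map_of_injective (K := PG) (f := (MulAut.conj ((c : G) * w)).toMonoidHom)
          (MulAut.conj ((c : G) * w)).injective).ge
    exact EvenType.StrongP.mem_norm.2 h2
  · have h1 : Act S (c : G) (1, 0, 0, 1) := by
      have h2 := (memC c).1 c.2
      constructor
      · rw [← h2.1, mul_inv_cancel_right]; exact (E_one_zero S).symm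
      · rw [← h2.2, mul_inv_cancel_right]; exact (E_zero_one S).symm
    have h2 := h1.mul S hw
    have h3 : mm (1, 0, 0, 1) m = m := by
      unfold mm
      simp only [mul_one, mul_zero, add_zero, zero_add]
    rwa [h3] at h2

/-- an element of `H` commuting with `e3` and moving `e3b` out of `M5` -/
theorem exists_h {w : G} (hw3 : w * w * w = 1) {m : ZMod 3 × ZMod 3 × ZMod 3 × ZMod 3} (hw : Act S w m)
    (hm : m ≠ (1, 0, 0, 1)) : ∃ h ∈ H, e3 S * h = h * e3 S ∧ h * e3b S * h⁻¹ ∉ M5 S := by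
  let P : ZMod 3 × ZMod 3 × ZMod 3 × ZMod 3 → Prop := fun m => ∃ h ∈ H, Act S h m
  have hmul : ∀ m m', P m → P m' → P (mm m m') := by
    rintro m m' ⟨h, hh, ha⟩ ⟨h', hh', ha'⟩
    exact ⟨h * h', mul_mem hh hh', ha.mul S ha'⟩
  have hD := D8_of hmul ⟨S.n1, LO_le S hH he1 ho h1H S.n1_mem_LO, act_n1 S⟩
    ⟨no S 2, M5_le S hH he1 ho h1H (no2_mem S), act_no2 S⟩ ⟨_, rot_mem S hH he1 ho h1H, act_rot S⟩
  have hPm : P m := frattini S hH he1 ho h1H hc hw3 hw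
  obtain ⟨a, b, c, d⟩ := m
  have h3 : mm (mm (a, b, c, d) (a, b, c, d)) (a, b, c, d) = (1, 0, 0, 1) := by
    have h1 := (hw.mul S hw).mul S hw
    rw [hw3] at h1
    exact h1.uniq S (act_one S)
  obtain ⟨x, hx, y, hy, k1, k2, k3⟩ := exists_word a b c d h3 hm
  obtain ⟨h, hh, ha⟩ := hmul _ _ (hmul _ _ (hD x hx) hPm) (hD y hy)
  refine ⟨h, hh, ?_, ?_⟩
  · have := ha.1
    rw [k1, k2, E_one_zero, mul_inv_eq_iff_eq_mul] at this
    exact this.symm
  · intro hmem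
    rw [ha.2] at hmem
    exact k3 (E_mem_M5 S hmem)

variable (hF : ∃ c : Fˣ, c ≠ 1) (hR : S.R.p = 2) (hq : Nat.card F % 3 = 2) (hp2 : p ≠ 2)
include hF hR hq hp2

/-- **the contradiction** -/
theorem false_of {w : G} (hw3 : w * w * w = 1) {m : ZMod 3 × ZMod 3 × ZMod 3 × ZMod 3} (hw : Act S w m)
    (hm : m ≠ (1, 0, 0, 1)) : False := by
  have Z8 := S.zsys8
  have hM5 := M5_le S hH he1 ho h1H
  have hLO := LO_le S hH he1 ho h1H
  have hT := T_le S hH he1 ho h1H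
  -- no element of `H` in the even root groups
  have heven : ∀ k : ℤ, k % 2 = 0 → ∀ x ∈ S.XZ k, x ∈ H → x = 1 := by
    intro k hk x hxk hxH
    by_contra hx1
    exact hH.2.1 (gen_odd S hF (le_sup_left.trans hLO) (le_sup_right.trans hLO) (le_sup_left.trans hM5)
      (le_sup_right.trans hM5) hk hxk hxH hx1)
  -- `H ⊓ J 2 8 ≤ X_3 X_5 X_7`
  have hV : ∀ x ∈ H, x ∈ J S.XZ 2 8 → x ∈ O357 S := by
    have h1 : H ⊓ J S.XZ 2 8 ≤ O357 S := by
      refine gen_T S hF hR (a := 2) (b := 8) (by norm_num) inf_le_right ?_ ?_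
      · rintro t ht x ⟨hx, hx'⟩
        have hxH : x ∈ H := hx
        exact ⟨show t * x * t⁻¹ ∈ H from mul_mem (mul_mem (hT ht) hxH) (inv_mem (hT ht)), S.T_conj_J ht hx'⟩
      · rintro k h1 h2 x ⟨⟨hxH, -⟩, hxk⟩
        by_cases hk : k % 2 = 0
        · rw [heven k hk x hxk hxH]; exact one_mem _
        · have : k = 3 ∨ k = 5 ∨ k = 7 := by omega
          rcases this with rfl | rfl | rfl
          · exact mem_O357_of S (Subgroup.mem_sup_left (Subgroup.mem_sup_left hxk))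
          · exact mem_O357_of S (Subgroup.mem_sup_left (Subgroup.mem_sup_right hxk))
          · exact mem_O357_of S (Subgroup.mem_sup_right hxk)
    exact fun x hx hx' => h1 ⟨hx, hx'⟩
  have h5 : ∀ x ∈ H, x ∈ J S.XZ 2 8 → e3 S * x = x * e3 S → x ∈ S.XZ 5 := fun x hx hx' h =>
    odd_cent S (hV x hx hx') h
  -- conjugates of `X_5` by elements of `H` commuting with `e3`
  have key : ∀ h ∈ H, e3 S * h = h * e3 S → ∀ y ∈ S.XZ 5, h * y * h⁻¹ ∈ M5 S := by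
    intro h hh hh3 y hy
    rcases conj_five S hF hR hq hh3 with h1 | ⟨u, hu, hu3, hu5⟩
    · exact Subgroup.mem_sup_left (h1 y hy)
    · -- `u M5 u⁻¹ ≤ H`
      have hcomm5 : ∀ x ∈ S.XZ 5, u * x * u⁻¹ = x := by
        intro x hx
        have := mem_centralizer_iff.1 hu.2 x hx
        rw [← this, mul_inv_cancel_right]
      have hu13 : ∀ x ∈ S.XZ 13, u * x * u⁻¹ ∈ H := by
        intro x hx
        have h2 : (u⁻¹ * h)⁻¹ * x * (u⁻¹ * h) ∈ S.XZ 5 := by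
          rw [hu5]
          have e : u⁻¹ * h * ((u⁻¹ * h)⁻¹ * x * (u⁻¹ * h)) * (u⁻¹ * h)⁻¹ = x := by group
          rw [e]; exact hx
        have h3 := hM5 (Subgroup.mem_sup_left h2 : (u⁻¹ * h)⁻¹ * x * (u⁻¹ * h) ∈ M5 S)
        have e : u * x * u⁻¹ = h * ((u⁻¹ * h)⁻¹ * x * (u⁻¹ * h)) * h⁻¹ := by group
        rw [e]
        exact mul_mem (mul_mem hh h3) (inv_mem hh)
      have huM : ∀ x ∈ M5 S, u * x * u⁻¹ ∈ H := by
        have : M5 S ≤ H.comap (MulAut.conj u).toMonoidHom := by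
          refine sup_le (fun x hx => ?_) (fun x hx => hu13 x hx)
          show u * x * u⁻¹ ∈ H
          rw [hcomm5 x hx]
          exact hM5 (Subgroup.mem_sup_left hx)
        exact fun x hx => this hx
      -- `u e1 u⁻¹ ∈ H`
      have hue5 : u * S.ck 2 e1 * u⁻¹ ∈ H := huM _ (ck_LO S he1)
      have hue5o : orderOf (u * S.ck 2 e1 * u⁻¹) = p := by
        rw [show u * S.ck 2 e1 * u⁻¹ = MulAut.conj u (S.ck 2 e1) from rfl, MulEquiv.orderOf_eq, e5_order S ho]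
      have hue1 : u * e1 * u⁻¹ ∈ H := by
        refine centralizer_le hH hue5 hue5o (mem_centralizer_singleton_iff.2 ?_)
        have := comm_M5 S he1 (ck_LO S he1)
        calc u * e1 * u⁻¹ * (u * S.ck 2 e1 * u⁻¹) = u * (e1 * S.ck 2 e1) * u⁻¹ := by group
          _ = _ := by rw [this]; group
      have hu28 : u ∈ J S.XZ 2 8 := hu.1
      -- the commutator
      have hk : u * e1 * u⁻¹ * e1⁻¹ ∈ S.XZ 5 := by
        refine h5 _ (mul_mem hue1 (inv_mem h1H)) ?_ ?_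
        · have e : u * e1 * u⁻¹ * e1⁻¹ = u * (e1 * u⁻¹ * e1⁻¹) := by group
          rw [e]
          exact mul_mem hu28 (Z8.conj_J (a := 2) (b := 8) (c := 1) (d := 9) (by norm_num) (by norm_num) (by norm_num)
            (S.LO_le_J he1) (inv_mem hu28))
        · have c1 : Commute (e3 S) u := hu3
          have c2 : Commute (e3 S) e1 := hc
          exact ((c1.mul_right c2).mul_right c1.inv_right).mul_right c2.inv_right
      have hk1 : u * e1 * u⁻¹ * e1⁻¹ = 1 := by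
        obtain ⟨s, hs⟩ := (mem_X5 S).1 hk
        have hcomm : Commute (S.o 2 s) e1 := by
          have := S.mem_centralizer_X5.1 (S.LO_le_cent he1) s
          exact this.symm
        have h6 : u * e1 * u⁻¹ = S.o 2 s * e1 := by rw [hs]; group
        have h7 : (u * e1 * u⁻¹) ^ p = 1 := by
          rw [conj_pow, ← ho, pow_orderOf_eq_one, mul_one, mul_inv_cancel]
        rw [h6, hcomm.mul_pow] at h7
        have h8 : e1 ^ p = 1 := by rw [← ho]; exact pow_orderOf_eq_one _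
        rw [h8, mul_one] at h7
        obtain ⟨n, hn⟩ := (hp.out.eq_two_or_odd'.resolve_left hp2)
        rw [hn, pow_succ, pow_mul, pow_two, Inv.o_sq S, one_pow, one_mul] at h7
        rw [← hs, h7]
      have hue : e1 * u = u * e1 := by
        rw [mul_inv_eq_one, mul_inv_eq_iff_eq_mul] at hk1
        exact hk1.symm
      have huH : u ∈ H := centralizer_le hH h1H ho (mem_centralizer_singleton_iff.2 hue.symm)
      have hux5 := h5 u huH hu28 hu3
      have e : h * y * h⁻¹ = u * ((u⁻¹ * h) * y * (u⁻¹ * h)⁻¹) * u⁻¹ := by group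
      rw [e]
      have hu' : u ∈ M5 S := Subgroup.mem_sup_left hux5
      exact mul_mem (mul_mem hu' (Subgroup.mem_sup_right ((hu5 y).1 hy))) (inv_mem hu')
  obtain ⟨h, hh, hh3, hhn⟩ := exists_h S hH he1 ho h1H hc hw3 hw hm
  apply hhn
  -- `h M5 h⁻¹ ≤ M5`
  have hfin : M5 S ≤ (M5 S).comap (MulAut.conj h).toMonoidHom := by
    refine sup_le (fun y hy => key h hh hh3 y hy) (fun y hy => ?_)
    -- use `no 2`
    have n5 : e3 S * no S 2 = no S 2 * e3 S := comm_M5 S (e3_mem S) (no2_mem S)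
    have h1 : (no S 2)⁻¹ * y * no S 2 ∈ S.XZ 5 := (no_refl S 2).mem_inv hy (by norm_num)
    have h2 : e3 S * (h * no S 2) = (h * no S 2) * e3 S := by
      rw [← mul_assoc, hh3, mul_assoc, n5, mul_assoc]
    have h3 := key (h * no S 2) (mul_mem hh (hM5 (no2_mem S))) h2 _ h1
    have e : h * no S 2 * ((no S 2)⁻¹ * y * no S 2) * (h * no S 2)⁻¹ = h * y * h⁻¹ := by group
    rw [e] at h3
    exact h3
  exact hfin (e3b_mem S)

end main

/-- **`²F₄(q)` has no strongly `p`-embedded subgroup, `p ∣ q + 1`**, given `e1` and `w`. -/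
theorem noSP_of [Finite F] [Finite G] {p : ℕ} [hp : Fact p.Prime] (hF : ∃ c : Fˣ, c ≠ 1) (hR : S.R.p = 2)
    (hq : Nat.card F % 3 = 2) (hp2 : p ≠ 2) {e1 : G} (he1 : e1 ∈ S.LO) (ho : orderOf e1 = p)
    (hc : e3 S * e1 = e1 * e3 S) {w : G} (hw3 : w * w * w = 1) {m : ZMod 3 × ZMod 3 × ZMod 3 × ZMod 3}
    (hw : Act S w m) (hm : m ≠ (1, 0, 0, 1)) : H818.StrP.NoSP p G := by
  intro M hM
  have hz : IsPGroup p (zpowers e1) := H240.StrongP.zpowers_isPGroup ho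
  obtain ⟨g, hg⟩ := H818.StrP.exists_conj_mem hM hz
  have h1 : g * e1 * g⁻¹ ∈ M := hg ⟨e1, mem_zpowers e1, rfl⟩
  have hM' := H818.StrP.map_equiv (MulAut.conj g⁻¹) hM
  refine false_of S hM' he1 ho ⟨g * e1 * g⁻¹, h1, ?_⟩ hc hF hR hq hp2 hw3 hw hm
  show g⁻¹ * (g * e1 * g⁻¹) * g⁻¹⁻¹ = e1
  group

end Cfsg.Agent.H772.TF
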